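import Cfsg.Agent.Lib.SpFourPresent.Torus

/-!
The order bound for groups with root group data of type `C_2`.
-/

set_option autoImplicit false

namespace CfsgLib.SpFourPresent

open SLTwoPresent SLThreePresent Pointwise

variable {F : Type*} [Field F] [Fintype F] {G : Type*} [Group G]

local notation "SL2" => Matrix.SpecialLinearGroup (Fin 2) F

namespace Data

variable {A B : Matrix.SpecialLinearGroup (Fin 2) F →* G} {ω : Fˣ}

/-- The order bound. -/
theorem card_le (D : Data A B ω)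
    (hgen : Subgroup.closure ({A (uu 1), A (dd ω), A ww, B (uu 1), B (dd ω), B ww} : Set G) = ⊤) :
    Finite G ∧ Nat.card G ≤
      (Fintype.card F ^ 3 + Fintype.card F ^ 2 + Fintype.card F + 1) *
        (Fintype.card F ^ 3 * (Nat.card SL2 * (Fintype.card F - 1))) := by
  classical
  obtain ⟨L, hLA, hLb, hLN, hLfin, hLcard⟩ := D.levi
  haveI := D.finite_NN
  haveI : Finite (L : Set G) := hLfin
  have hnorm : ∀ l ∈ L, ∀ n ∈ D.NN, l * n * l⁻¹ ∈ D.NN := fun l hl n hn =>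
    (Subgroup.mem_normalizer_iff.1 (hLN hl) n).1 hn
  have hnorm' : ∀ l ∈ L, ∀ n ∈ D.NN, l⁻¹ * n * l ∈ D.NN := fun l hl n hn => by
    simpa using hnorm l⁻¹ (L.inv_mem hl) n hn
  set P := D.NN ⊔ L with hP
  set T := tor (⇑A) (⇑B) ω with hT
  have hPA : ∀ x, A x ∈ P := fun x => Subgroup.mem_sup_right (hLA x)
  have hPN : ∀ n ∈ D.NN, n ∈ P := fun n hn => Subgroup.mem_sup_left hn
  have hTL : ∀ t ∈ T, t ∈ L := fun t ht => by
    refine (Subgroup.closure_le (K := L)).2 ?_ ht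
    rintro x (rfl | rfl)
    exacts [hLA _, hLb]
  have hPT : ∀ t ∈ T, t ∈ P := fun t ht => Subgroup.mem_sup_right (hTL t ht)
  set wa := A ww with hwa
  set wb := B ww with hwb
  have hwbT : wb * wb ∈ T := by
    obtain ⟨j, hj⟩ := D.B_ww_sq
    rw [hwb, hj]; exact T.pow_mem hb_mem j
  have hwaT : wa * wa ∈ T := by
    obtain ⟨j, hj⟩ := D.A_ww_sq
    rw [hwa, hj]; exact T.pow_mem ha_mem j
  -- conjugation by the long Weyl element
  have wbd : ∀ x, wb⁻¹ * rd (⇑A) (⇑B) x * wb = rd (⇑A) (⇑B) x := fun x => by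
    conv_lhs => rw [← D.wb_rd x]
    rw [hwb]; group
  have wbc : ∀ y, wb⁻¹ * rc (⇑A) (⇑B) y * wb = A (uu (-y)) := fun y => by
    rw [hwb]; simp only [rc]; group
  have wba : ∀ s, wb⁻¹ * A (uu s) * wb ∈ D.NN := fun s => by
    have e : wb⁻¹ * A (uu s) * wb = (wb * wb)⁻¹ * rc (⇑A) (⇑B) (-s) * (wb * wb) := by
      simp only [rc, neg_neg, ← hwb]; group
    rw [e]
    exact hnorm' _ (hTL _ hwbT) _ (D.rc_mem _)
  -- the cosets
  let Ω : Set (G ⧸ P) := {((1 : G) : G ⧸ P)} ∪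
    (Set.range (fun z : F => ((B (uu z) * wb : G) : G ⧸ P)) ∪
      (Set.range (fun sz : F × F => ((A (uu sz.1) * wa * B (uu sz.2) * wb : G) : G ⧸ P)) ∪
        Set.range (fun rsz : F × F × F =>
          ((B (uu rsz.1) * wb * A (uu rsz.2.1) * wa * B (uu rsz.2.2) * wb : G) : G ⧸ P))))
  have hone : ((1 : G) : G ⧸ P) ∈ Ω := Or.inl rfl
  have hΩfin : Ω.Finite := (Set.finite_singleton _).union
    ((Set.finite_range _).union ((Set.finite_range _).union (Set.finite_range _)))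
  have m1 : ∀ p ∈ P, ((p : G) : G ⧸ P) ∈ Ω := fun p hp => by
    rw [← one_mul p, QuotientGroup.mk_mul_of_mem _ hp]; exact hone
  -- absorbing lemmas
  have push1 : ∀ n ∈ D.NN, ∀ z, ∃ z', ∃ p ∈ P,
      n * B (uu z) * wb = B (uu z') * wb * p := by
    rintro _ ⟨⟨x, y, z0⟩, rfl⟩ z
    refine ⟨z0 + z, (wb⁻¹ * rd (⇑A) (⇑B) x * wb) * (wb⁻¹ * rc (⇑A) (⇑B) y * wb),
      P.mul_mem (by rw [wbd]; exact hPN _ (D.rd_mem _)) (by rw [wbc]; exact hPA _), ?_⟩
    simp only
    rw [uu_add, map_mul]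
    set d := rd (⇑A) (⇑B) x with hd
    set e := rc (⇑A) (⇑B) y with he
    calc d * e * B (uu z0) * B (uu z) * wb = (d * e) * (B (uu z0) * B (uu z)) * wb := by group
      _ = (B (uu z0) * B (uu z)) * (d * e) * wb := by
          rw [← map_mul, ← uu_add, ((D.bd (z0 + z) x).mul_right (D.bc (z0 + z) y)).eq]
      _ = _ := by group
  have push2 : ∀ n ∈ D.NN, ∀ u, ∃ u', ∃ p ∈ P,
      n * wa * B (uu u) * wb = wa * B (uu u') * wb * p := by
    intro n hn u
    obtain ⟨u', p, hp, e⟩ := push1 _ (hnorm' wa (hLA _) n hn) u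
    refine ⟨u', p, hp, ?_⟩
    calc n * wa * B (uu u) * wb = wa * (wa⁻¹ * n * wa * B (uu u) * wb) := by group
      _ = _ := by rw [e]; group
  have tmove2 : ∀ t ∈ T, ∀ z, ∃ z', ∃ p ∈ P, t * B (uu z) * wb = B (uu z') * wb * p := by
    intro t ht z
    obtain ⟨z', e⟩ := (D.tor_b ht z).1
    exact ⟨z', wb⁻¹ * t * wb, hPT _ (D.w_tor ht).2.2.2, by rw [e]; group⟩
  have tmove3 : ∀ t ∈ T, ∀ u, ∃ u', ∃ p ∈ P,
      t * wa * B (uu u) * wb = wa * B (uu u') * wb * p := by
    intro t ht u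
    obtain ⟨u', p, hp, e⟩ := tmove2 _ (D.w_tor ht).2.1 u
    refine ⟨u', p, hp, ?_⟩
    calc t * wa * B (uu u) * wb = wa * (wa⁻¹ * t * wa * B (uu u) * wb) := by group
      _ = _ := by rw [e]; group
  have m2 : ∀ z, ∀ p ∈ P, ((B (uu z) * wb * p : G) : G ⧸ P) ∈ Ω := fun z p hp => by
    rw [QuotientGroup.mk_mul_of_mem _ hp]; exact Or.inr (Or.inl ⟨z, rfl⟩)
  have m3 : ∀ s, ∀ t ∈ T, ∀ n ∈ D.NN, ∀ z, ∀ p ∈ P,
      ((A (uu s) * t * n * wa * B (uu z) * wb * p : G) : G ⧸ P) ∈ Ω := by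
    intro s t ht n hn z p hp
    obtain ⟨z1, p1, hp1, e1⟩ := push2 n hn z
    obtain ⟨z2, p2, hp2, e2⟩ := tmove3 t ht z1
    rw [show A (uu s) * t * n * wa * B (uu z) * wb * p =
      A (uu s) * t * (n * wa * B (uu z) * wb) * p by group, e1,
      show A (uu s) * t * (wa * B (uu z1) * wb * p1) * p =
        A (uu s) * (t * wa * B (uu z1) * wb) * (p1 * p) by group, e2,
      show A (uu s) * (wa * B (uu z2) * wb * p2) * (p1 * p) =
        A (uu s) * wa * B (uu z2) * wb * (p2 * (p1 * p)) by group,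
      QuotientGroup.mk_mul_of_mem _ (P.mul_mem hp2 (P.mul_mem hp1 hp))]
    exact Or.inr (Or.inr (Or.inl ⟨(s, z2), rfl⟩))
  have m4 : ∀ n ∈ D.NN, ∀ t ∈ T, ∀ n' ∈ D.NN, ∀ s u, ∀ p ∈ P,
      ((n * t * wb * n' * A (uu s) * wa * B (uu u) * wb * p : G) : G ⧸ P) ∈ Ω := by
    intro n hn t ht n' hn' s u p hp
    obtain ⟨⟨x, y, z⟩, rfl⟩ := hn
    simp only
    have ht' := (D.w_tor ht).2.2.2
    set t' := wb⁻¹ * t * wb with ht'def
    set n1 := rd (⇑A) (⇑B) x with hn1
    have hn1m : n1 ∈ D.NN := D.rd_mem x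
    -- normalise
    obtain ⟨z', hz'⟩ : ∃ z', n1 * rc (⇑A) (⇑B) y * B (uu z) * t * wb =
        B (uu z') * wb * (n1 * A (uu (-y)) * t') := by
      refine ⟨z, ?_⟩
      rw [← wbc, show rd (⇑A) (⇑B) x = n1 from rfl] at *
      rw [show n1 * rc (⇑A) (⇑B) y * B (uu z) = B (uu z) * (n1 * rc (⇑A) (⇑B) y) from
        (((D.bd z x).mul_right (D.bc z y)).eq).symm]
      have e : wb⁻¹ * n1 * wb = n1 := wbd x
      calc B (uu z) * (n1 * rc (⇑A) (⇑B) y) * t * wb
          = B (uu z) * wb * ((wb⁻¹ * n1 * wb) * (wb⁻¹ * rc (⇑A) (⇑B) y * wb) * t') := by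
            rw [ht'def]; group
        _ = _ := by rw [e]
    obtain ⟨s', hs'⟩ := (D.tor_a ht' s).1
    -- move everything after `A`
    set a0 := A (uu (-y)) with ha0
    set as := A (uu s') with has
    set m := as⁻¹ * a0⁻¹ * n1 * a0 * as * (as⁻¹ * (t' * n' * t'⁻¹) * as) with hm
    have hmN : m ∈ D.NN := by
      refine D.NN.mul_mem ?_ (hnorm' _ (hLA _) _ (hnorm _ (hTL _ ht') _ hn'))
      have := hnorm' _ (L.mul_mem (hLA (uu (-y))) (hLA (uu s'))) _ hn1m
      simpa only [ha0, has, mul_inv_rev, mul_assoc] using this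
    obtain ⟨u1, p1, hp1, e1⟩ := tmove3 t' ht' u
    obtain ⟨u2, p2, hp2, e2⟩ := push2 m hmN u1
    have hall : n1 * rc (⇑A) (⇑B) y * B (uu z) * t * wb * n' * A (uu s) * wa * B (uu u) * wb * p =
        B (uu z') * wb * A (uu (-y + s')) * wa * B (uu u2) * wb * (p2 * (p1 * p)) := by
      rw [hz', uu_add, map_mul, ← ha0, ← has]
      calc B (uu z') * wb * (n1 * a0 * t') * n' * A (uu s) * wa * B (uu u) * wb * p
          = B (uu z') * wb * (n1 * a0 * (t' * n' * t'⁻¹)) * (t' * A (uu s)) * wa * B (uu u) * wb *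
              p := by group
        _ = B (uu z') * wb * (a0 * as) * (m * (t' * wa * B (uu u) * wb)) * p := by
            rw [hs', hm]; group
        _ = B (uu z') * wb * (a0 * as) * (m * wa * B (uu u1) * wb) * (p1 * p) := by rw [e1]; group
        _ = _ := by rw [e2]; group
    rw [hall, QuotientGroup.mk_mul_of_mem _ (P.mul_mem hp2 (P.mul_mem hp1 hp))]
    exact Or.inr (Or.inr (Or.inr ⟨(z', -y + s', u2), rfl⟩))
  have htor : ∀ t ∈ T, ∀ x ∈ Ω, t • x ∈ Ω := by
    rintro t ht x (rfl | ⟨z, rfl⟩ | ⟨⟨s, z⟩, rfl⟩ | ⟨⟨r, s, z⟩, rfl⟩)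
    · rw [MulAction.Quotient.smul_coe, smul_eq_mul, mul_one]; exact m1 _ (hPT _ ht)
    · rw [MulAction.Quotient.smul_coe, smul_eq_mul, ← mul_assoc]
      obtain ⟨z', p, hp, e⟩ := tmove2 t ht z
      rw [e]; exact m2 _ _ hp
    · rw [MulAction.Quotient.smul_coe, smul_eq_mul]
      obtain ⟨s', hs'⟩ := (D.tor_a ht s).1
      rw [show t * (A (uu s) * wa * B (uu z) * wb) = (t * A (uu s)) * 1 * wa * B (uu z) * wb * 1
        by group, hs']
      exact m3 _ _ ht _ D.NN.one_mem _ _ P.one_mem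
    · rw [MulAction.Quotient.smul_coe, smul_eq_mul]
      obtain ⟨r', hr'⟩ := (D.tor_b ht r).1
      rw [show t * (B (uu r) * wb * A (uu s) * wa * B (uu z) * wb) =
        (t * B (uu r)) * wb * 1 * A (uu s) * wa * B (uu z) * wb * 1 by group, hr']
      exact m4 _ (D.b_mem _) _ ht _ D.NN.one_mem _ _ _ P.one_mem
  have hA : ∀ e ∈ ({A (uu 1), A (dd ω), wa, B (uu 1), B (dd ω), wb} : Set G),
      ∀ x ∈ Ω, e • x ∈ Ω := by
    rintro e he x hx
    rcases he with rfl | rfl | rfl | rfl | rfl | rfl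
    · -- the short root element
      rcases hx with rfl | ⟨z, rfl⟩ | ⟨⟨s, z⟩, rfl⟩ | ⟨⟨r, s, z⟩, rfl⟩
      · rw [MulAction.Quotient.smul_coe, smul_eq_mul, mul_one]; exact m1 _ (hPA _)
      · rw [MulAction.Quotient.smul_coe, smul_eq_mul]
        obtain ⟨z', p, hp, e1⟩ := push1 _ (D.ua_conj (D.b_mem z)) 0
        rw [uu_zero, map_one, mul_one] at e1
        rw [show A (uu 1) * (B (uu z) * wb) =
          (A (uu 1) * B (uu z) * (A (uu 1))⁻¹ * wb) * (wb⁻¹ * A (uu 1) * wb) by group, e1,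
          mul_assoc]
        exact m2 _ _ (P.mul_mem hp (hPN _ (wba 1)))
      · rw [MulAction.Quotient.smul_coe, smul_eq_mul]
        rw [show A (uu 1) * (A (uu s) * wa * B (uu z) * wb) =
          A (uu 1) * A (uu s) * 1 * 1 * wa * B (uu z) * wb * 1 by group, ← map_mul, ← uu_add]
        exact m3 _ _ T.one_mem _ D.NN.one_mem _ _ P.one_mem
      · rw [MulAction.Quotient.smul_coe, smul_eq_mul]
        rw [show A (uu 1) * (B (uu r) * wb * A (uu s) * wa * B (uu z) * wb) =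
          (A (uu 1) * B (uu r) * (A (uu 1))⁻¹) * 1 * wb * (wb⁻¹ * A (uu 1) * wb) * A (uu s) * wa *
            B (uu z) * wb * 1 by group]
        exact m4 _ (D.ua_conj (D.b_mem r)) _ T.one_mem _ (wba 1) _ _ _ P.one_mem
    · exact htor _ ha_mem x hx
    · -- the short Weyl element
      rcases hx with rfl | ⟨z, rfl⟩ | ⟨⟨s, z⟩, rfl⟩ | ⟨⟨r, s, z⟩, rfl⟩
      · rw [MulAction.Quotient.smul_coe, smul_eq_mul, mul_one]; exact m1 _ (hPA _)
      · rw [MulAction.Quotient.smul_coe, smul_eq_mul,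
          show wa * (B (uu z) * wb) = A (uu 0) * 1 * 1 * wa * B (uu z) * wb * 1 by
            rw [uu_zero, map_one]; group]
        exact m3 _ _ T.one_mem _ D.NN.one_mem _ _ P.one_mem
      · rw [MulAction.Quotient.smul_coe, smul_eq_mul]
        rcases eq_or_ne s 0 with rfl | hs
        · rw [uu_zero, map_one, show wa * ((1 : G) * wa * B (uu z) * wb) =
            wa * wa * B (uu z) * wb by group]
          obtain ⟨z', p, hp, e1⟩ := tmove2 _ hwaT z
          rw [e1]; exact m2 _ _ hp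
        · obtain ⟨j, hj⟩ := D.dd_eq_pow (Units.mk0 (-s⁻¹) (by simp [hs]))
          have hstep := congrArg A (step s hs)
          rw [map_mul, map_mul, map_mul, map_mul, map_mul, hj, map_pow] at hstep
          obtain ⟨z', p, hp, e1⟩ := push1 _ (hnorm _ (hLA (uu (-s⁻¹))) _ (D.b_mem z)) 0
          rw [uu_zero, map_one, mul_one] at e1
          rw [show wa * (A (uu s) * wa * B (uu z) * wb) = (wa * A (uu s) * wa) * B (uu z) * wb by group,
            hwa, hstep,
            show A (uu (-s⁻¹)) * A (dd ω) ^ j * A ww * A (uu (-s⁻¹)) * B (uu z) * wb =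
              A (uu (-s⁻¹)) * A (dd ω) ^ j * 1 * A ww *
                (A (uu (-s⁻¹)) * B (uu z) * (A (uu (-s⁻¹)))⁻¹ * wb) *
                (wb⁻¹ * A (uu (-s⁻¹)) * wb) by group, e1,
            show A (uu (-s⁻¹)) * A (dd ω) ^ j * 1 * A ww * (B (uu z') * wb * p) *
              (wb⁻¹ * A (uu (-s⁻¹)) * wb) = A (uu (-s⁻¹)) * A (dd ω) ^ j * 1 * A ww * B (uu z') *
                wb * (p * (wb⁻¹ * A (uu (-s⁻¹)) * wb)) by group]
          exact m3 _ _ (T.pow_mem ha_mem j) _ D.NN.one_mem _ _ (P.mul_mem hp (hPN _ (wba _)))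
      · rw [MulAction.Quotient.smul_coe, smul_eq_mul]
        have hd : ∀ x, wa * rd (⇑A) (⇑B) x * wa⁻¹ ∈ D.NN := fun x =>
          hnorm _ (hLA _) _ (D.rd_mem x)
        have hcs : wa * (wb * A (uu s) * wb⁻¹) = rc (⇑A) (⇑B) s * wa := by
          have h1 := D.wa_rc (-s)
          simp only [rc, neg_neg] at h1
          rw [show wa * (wb * A (uu s) * wb⁻¹) = (wa * (wb * A (uu s) * wb⁻¹) * wa⁻¹) * wa by group,
            hwa, hwb, h1]
          rfl
        have hn : wa * wb * wa * B (uu z) * (wa * wb * wa)⁻¹ ∈ D.NN := by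
          rw [show wa * wb * wa * B (uu z) * (wa * wb * wa)⁻¹ =
            wa * (wb * (wa * B (uu z) * wa⁻¹) * wb⁻¹) * wa⁻¹ by group]
          rw [hwa, hwb, show A ww * B (uu z) * (A ww)⁻¹ = rd (⇑A) (⇑B) z from rfl, D.wb_rd, ← hwa]
          exact hd z
        rw [show wa * (B (uu r) * wb * A (uu s) * wa * B (uu z) * wb) =
          (wa * B (uu r) * wa⁻¹) * (wa * (wb * A (uu s) * wb⁻¹)) * wb * wa * B (uu z) * wb by group,
          hcs, show wa * B (uu r) * wa⁻¹ * (rc (⇑A) (⇑B) s * wa) * wb * wa * B (uu z) * wb =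
            (wa * B (uu r) * wa⁻¹ * rc (⇑A) (⇑B) s * (wa * wb * wa * B (uu z) * (wa * wb * wa)⁻¹)) *
              (wa * wb * wa * wb) by group, hwa, hwb, D.braid, ← hwa, ← hwb,
          show (wa * B (uu r) * wa⁻¹ * rc (⇑A) (⇑B) s * (wa * wb * wa * B (uu z) * (wa * wb * wa)⁻¹)) *
              (wb * wa * wb * wa) =
            (wa * B (uu r) * wa⁻¹ * rc (⇑A) (⇑B) s * (wa * wb * wa * B (uu z) * (wa * wb * wa)⁻¹)) * 1 *
              wb * 1 * A (uu 0) * wa * B (uu 0) * wb * wa by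
                rw [uu_zero, map_one, map_one]; group]
        exact m4 _ (D.NN.mul_mem (D.NN.mul_mem (hnorm _ (hLA _) _ (D.b_mem r)) (D.rc_mem s)) hn) _
          T.one_mem _ D.NN.one_mem _ _ _ (hPA _)
    · -- the long root element
      rcases hx with rfl | ⟨z, rfl⟩ | ⟨⟨s, z⟩, rfl⟩ | ⟨⟨r, s, z⟩, rfl⟩
      · rw [MulAction.Quotient.smul_coe, smul_eq_mul, mul_one]; exact m1 _ (hPN _ (D.b_mem _))
      · rw [MulAction.Quotient.smul_coe, smul_eq_mul,
          show B (uu 1) * (B (uu z) * wb) = B (uu 1) * B (uu z) * wb * 1 by group, ← map_mul,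
          ← uu_add]
        exact m2 _ _ P.one_mem
      · rw [MulAction.Quotient.smul_coe, smul_eq_mul,
          show B (uu 1) * (A (uu s) * wa * B (uu z) * wb) =
            A (uu s) * 1 * ((A (uu s))⁻¹ * B (uu 1) * A (uu s)) * wa * B (uu z) * wb * 1 by group]
        exact m3 _ _ T.one_mem _ (hnorm' _ (hLA _) _ (D.b_mem 1)) _ _ P.one_mem
      · rw [MulAction.Quotient.smul_coe, smul_eq_mul,
          show B (uu 1) * (B (uu r) * wb * A (uu s) * wa * B (uu z) * wb) =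
            B (uu 1) * B (uu r) * 1 * wb * 1 * A (uu s) * wa * B (uu z) * wb * 1 by group]
        exact m4 _ (D.NN.mul_mem (D.b_mem 1) (D.b_mem r)) _ T.one_mem _ D.NN.one_mem _ _ _ P.one_mem
    · exact htor _ hb_mem x hx
    · -- the long Weyl element
      rcases hx with rfl | ⟨z, rfl⟩ | ⟨⟨s, z⟩, rfl⟩ | ⟨⟨r, s, z⟩, rfl⟩
      · rw [MulAction.Quotient.smul_coe, smul_eq_mul,
          show wb * 1 = B (uu (0 : F)) * wb * 1 by rw [uu_zero, map_one]; group]
        exact m2 _ _ P.one_mem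
      · rw [MulAction.Quotient.smul_coe, smul_eq_mul]
        rcases eq_or_ne z 0 with rfl | hz
        · rw [uu_zero, map_one, one_mul]; exact m1 _ (hPT _ hwbT)
        · obtain ⟨j, hj⟩ := D.dd_eq_pow (Units.mk0 (-z⁻¹) (by simp [hz]))
          have hstep := congrArg B (step z hz)
          rw [map_mul, map_mul, map_mul, map_mul, map_mul, hj, map_pow] at hstep
          rw [show wb * (B (uu z) * wb) = wb * B (uu z) * wb by group, hwb, hstep,
            show B (uu (-z⁻¹)) * B (dd ω) ^ j * B ww * B (uu (-z⁻¹)) =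
              B (uu (-z⁻¹)) * B ww * ((B ww)⁻¹ * B (dd ω) ^ j * B ww * B (uu (-z⁻¹))) by group]
          exact m2 _ _ (P.mul_mem (hPT _ (D.w_tor (T.pow_mem hb_mem j)).2.2.2) (hPN _ (D.b_mem _)))
      · rw [MulAction.Quotient.smul_coe, smul_eq_mul,
          show wb * (A (uu s) * wa * B (uu z) * wb) =
            1 * 1 * wb * 1 * A (uu s) * wa * B (uu z) * wb * 1 by group]
        exact m4 _ D.NN.one_mem _ T.one_mem _ D.NN.one_mem _ _ _ P.one_mem
      · rw [MulAction.Quotient.smul_coe, smul_eq_mul]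
        rcases eq_or_ne r 0 with rfl | hr
        · obtain ⟨s', hs'⟩ := (D.tor_a hwbT s).1
          rw [uu_zero, map_one, show wb * ((1 : G) * wb * A (uu s) * wa * B (uu z) * wb) =
            (wb * wb * A (uu s)) * 1 * wa * B (uu z) * wb * 1 by group, hs']
          exact m3 _ _ hwbT _ D.NN.one_mem _ _ P.one_mem
        · obtain ⟨j, hj⟩ := D.dd_eq_pow (Units.mk0 (-r⁻¹) (by simp [hr]))
          have hstep := congrArg B (step r hr)
          rw [map_mul, map_mul, map_mul, map_mul, map_mul, hj, map_pow] at hstep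
          rw [show wb * (B (uu r) * wb * A (uu s) * wa * B (uu z) * wb) =
            (wb * B (uu r) * wb) * A (uu s) * wa * B (uu z) * wb * 1 by group, hwb, hstep]
          exact m4 _ (D.b_mem _) _ (T.pow_mem hb_mem j) _ (D.b_mem _) _ _ _ P.one_mem
  have huniv : (Set.univ : Set (G ⧸ P)) ⊆ Ω := by
    intro x _
    obtain ⟨y, rfl⟩ := QuotientGroup.mk_surjective x
    have hy : y ∈ Subgroup.closure
        ({A (uu 1), A (dd ω), wa, B (uu 1), B (dd ω), wb} : Set G) := hgen ▸ Subgroup.mem_top y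
    have h1 := smul_mem_of_closure hΩfin hA hy hone
    rwa [MulAction.Quotient.smul_coe, smul_eq_mul, mul_one] at h1
  haveI : Finite (G ⧸ P) := Set.finite_univ_iff.1 (hΩfin.subset huniv)
  have hidx : Nat.card (G ⧸ P) ≤
      Fintype.card F ^ 3 + Fintype.card F ^ 2 + Fintype.card F + 1 := by
    rw [← Set.ncard_univ]
    refine (Set.ncard_le_ncard huniv hΩfin).trans ((Set.ncard_union_le _ _).trans ?_)
    rw [Set.ncard_singleton]
    refine le_trans (Nat.add_le_add_left ((Set.ncard_union_le _ _).trans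
      (Nat.add_le_add_left (Set.ncard_union_le _ _) _)) 1) ?_
    rw [← Nat.card_coe_set_eq, ← Nat.card_coe_set_eq, ← Nat.card_coe_set_eq]
    refine le_trans (Nat.add_le_add_left (Nat.add_le_add (Finite.card_range_le _)
      (Nat.add_le_add (Finite.card_range_le _) (Finite.card_range_le _))) 1) ?_
    rw [Nat.card_prod, Nat.card_prod, Nat.card_prod, Nat.card_eq_fintype_card (α := F)]
    exact le_of_eq (by ring)
  have hcoe : (P : Set G) = (D.NN : Set G) * (L : Set G) :=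
    Subgroup.coe_mul_of_right_le_normalizer_left D.NN L hLN
  have hPfin : (P : Set G).Finite := by
    rw [hcoe]; exact Set.Finite.mul (Set.toFinite _) (Set.toFinite _)
  haveI : Finite P := hPfin.to_subtype
  have hPcard : Nat.card P ≤ Fintype.card F ^ 3 * (Nat.card SL2 * (Fintype.card F - 1)) := by
    change Nat.card (P : Set G) ≤ _
    rw [hcoe]
    refine Set.natCard_mul_le.trans (Nat.mul_le_mul ?_ hLcard)
    refine (Finite.card_range_le
      (fun x : F × F × F => rd (⇑A) (⇑B) x.1 * rc (⇑A) (⇑B) x.2.1 * B (uu x.2.2))).trans ?_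
    rw [Nat.card_prod, Nat.card_prod, Nat.card_eq_fintype_card (α := F)]
    exact le_of_eq (by ring)
  refine ⟨Finite.of_equiv _ (Subgroup.groupEquivQuotientProdSubgroup (s := P)).symm, ?_⟩
  rw [Subgroup.card_eq_card_quotient_mul_card_subgroup P]
  exact Nat.mul_le_mul hidx hPcard

end Data

end CfsgLib.SpFourPresent
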