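import Cfsg.Agent.Lib.SLTwoPresent.Target
import Cfsg.Agent.Lib.SLTwoPresent.Arith
import Cfsg.Agent.Lib.SLThreePresent.Extend

/-!
Root groups and torus derived from short relations of `Sp_4`.

The homomorphisms `A` and `B` are the copies of `SL_2` of the short root `a` and the long root `b`.
-/

set_option autoImplicit false

namespace CfsgLib.SpFourPresent

open Polynomial SLTwoPresent SLThreePresent

variable {F : Type*} [Field F]

local notation "SL2" => Matrix.SpecialLinearGroup (Fin 2) F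

/-- The root elements of `a + b`. -/
def rc {H : Type*} [Group H] (a b : SL2 → H) (t : F) : H := b ww * a (uu (-t)) * (b ww)⁻¹

/-- The root elements of `2a + b`. -/
def rd {H : Type*} [Group H] (a b : SL2 → H) (t : F) : H := a ww * b (uu t) * (a ww)⁻¹

/-- The relators linking the two copies of `SL_2`. -/
def linkRels {H : Type*} [Group H] (a b : SL2 → H) (ω : Fˣ) : List H :=
  [a (dd ω) * b (dd ω) * (b (dd ω) * a (dd ω))⁻¹,
    a ww * b (dd ω) * (a ww)⁻¹ * (a (dd ω) * b (dd ω))⁻¹,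
    b ww * a (dd ω) * (b ww)⁻¹ * (a (dd ω) * b (dd ω) ^ 2)⁻¹,
    a (dd ω) * b (dd ω) * b (uu 1) * (b (uu 1) * (a (dd ω) * b (dd ω)))⁻¹,
    b (dd ω) * a (uu 1) * (b (dd ω))⁻¹ * (a (uu ((ω : F)⁻¹)))⁻¹,
    a ww * b ww * a ww * b ww * (b ww * a ww * b ww * a ww)⁻¹,
    b ww * rd a b 1 * (b ww)⁻¹ * (rd a b 1)⁻¹,
    a ww * rc a b 1 * (a ww)⁻¹ * (rc a b (-1))⁻¹,
    a (uu 1) * rd a b 1 * (rd a b 1 * a (uu 1))⁻¹,
    b (uu 1) * rc a b 1 * (rc a b 1 * b (uu 1))⁻¹,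
    b (uu 1) * rd a b 1 * (rd a b 1 * b (uu 1))⁻¹,
    a (uu 1) * rc a b 1 * (a (uu 1))⁻¹ * (rd a b 1 * rd a b 1 * rc a b 1)⁻¹,
    a (uu 1) * b (uu 1) * (a (uu 1))⁻¹ * (rd a b 1 * rc a b 1 * b (uu 1))⁻¹]

theorem map_linkRels {H K : Type*} [Group H] [Group K] (f : H →* K) (a b : SL2 → H) (ω : Fˣ) :
    (linkRels a b ω).map f = linkRels (fun x => f (a x)) (fun x => f (b x)) ω := by
  simp [linkRels, rc, rd]

variable {G : Type*} [Group G]

/-- Two copies of `SL_2` satisfying the relations. -/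
structure Data (A B : SL2 →* G) (ω : Fˣ) : Prop where
  gen : ∀ t : F, t ≠ 0 → ∃ j : ℕ, t = (ω : F) ^ j
  std : Subgroup.closure ({uu (1 : F), dd ω, ww} : Set SL2) = ⊤
  rels : ∀ r ∈ linkRels (⇑A) (⇑B) ω, r = 1

namespace Data

variable {A B : Matrix.SpecialLinearGroup (Fin 2) F →* G} {ω : Fˣ}

theorem dd_eq_pow (D : Data A B ω) (α : Fˣ) : ∃ j : ℕ, dd α = (dd ω : SL2) ^ j := by
  obtain ⟨j, hj⟩ := D.gen α α.ne_zero
  exact ⟨j, by rw [← dd_pow]; congr 1; exact Units.ext (by simpa using hj)⟩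

section
variable (D : Data A B ω)
include D

theorem hab_comm : Commute (A (dd ω)) (B (dd ω)) :=
  mul_inv_eq_one.1 (D.rels _ (by simp [linkRels]))

theorem wa_hb : A ww * B (dd ω) * (A ww)⁻¹ = A (dd ω) * B (dd ω) :=
  mul_inv_eq_one.1 (D.rels _ (by simp [linkRels]))

theorem wb_ha : B ww * A (dd ω) * (B ww)⁻¹ = A (dd ω) * B (dd ω) ^ 2 :=
  mul_inv_eq_one.1 (D.rels _ (by simp [linkRels]))

theorem ab_ub : Commute (A (dd ω) * B (dd ω)) (B (uu 1)) :=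
  mul_inv_eq_one.1 (D.rels _ (by simp [linkRels]))

theorem hb_ua : B (dd ω) * A (uu 1) * (B (dd ω))⁻¹ = A (uu ((ω : F)⁻¹)) :=
  mul_inv_eq_one.1 (D.rels _ (by simp [linkRels]))

theorem braid : A ww * B ww * A ww * B ww = B ww * A ww * B ww * A ww :=
  mul_inv_eq_one.1 (D.rels _ (by simp [linkRels]))

theorem wb_rd1 : B ww * rd (⇑A) (⇑B) 1 * (B ww)⁻¹ = rd (⇑A) (⇑B) 1 :=
  mul_inv_eq_one.1 (D.rels _ (by simp [linkRels]))

theorem wa_rc1 : A ww * rc (⇑A) (⇑B) 1 * (A ww)⁻¹ = rc (⇑A) (⇑B) (-1) :=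
  mul_inv_eq_one.1 (D.rels _ (by simp [linkRels]))

theorem ad1 : Commute (A (uu 1)) (rd (⇑A) (⇑B) 1) :=
  mul_inv_eq_one.1 (D.rels _ (by simp [linkRels]))

theorem bc1 : Commute (B (uu 1)) (rc (⇑A) (⇑B) 1) :=
  mul_inv_eq_one.1 (D.rels _ (by simp [linkRels]))

theorem bd1 : Commute (B (uu 1)) (rd (⇑A) (⇑B) 1) :=
  mul_inv_eq_one.1 (D.rels _ (by simp [linkRels]))

theorem form_ac1 : A (uu 1) * rc (⇑A) (⇑B) 1 * (A (uu 1))⁻¹ = rd (⇑A) (⇑B) 1 * rd (⇑A) (⇑B) 1 * rc (⇑A) (⇑B) 1 :=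
  mul_inv_eq_one.1 (D.rels _ (by simp [linkRels]))

theorem form_ab1 : A (uu 1) * B (uu 1) * (A (uu 1))⁻¹ = rd (⇑A) (⇑B) 1 * rc (⇑A) (⇑B) 1 * B (uu 1) :=
  mul_inv_eq_one.1 (D.rels _ (by simp [linkRels]))

omit D in
theorem hom_conj (P : SL2 →* G) (α : Fˣ) (t : F) :
    P (dd α) * P (uu t) * (P (dd α))⁻¹ = P (uu ((α : F) ^ 2 * t)) := by
  rw [← map_inv, ← map_mul, ← map_mul, dd_conj]

omit D in
theorem hom_ww_conj (P : SL2 →* G) (α : Fˣ) : P ww * P (dd α) * (P ww)⁻¹ = (P (dd α))⁻¹ := by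
  rw [← map_inv, ← map_inv, ← map_mul, ← map_mul, ww_conj]

omit D in
theorem hom_ww_inv (P : SL2 →* G) (α : Fˣ) : (P ww)⁻¹ * P (dd α) * P ww = (P (dd α))⁻¹ := by
  calc (P ww)⁻¹ * P (dd α) * P ww = ((P ww)⁻¹ * (P (dd α))⁻¹ * P ww)⁻¹ := by group
    _ = _ := by
        conv_lhs => rw [← hom_ww_conj P α]
        group

theorem ha_a : Sc (A (dd ω)) (fun t => A (uu t)) ((ω : F) ^ 2) := hom_conj A ω
theorem hb_b : Sc (B (dd ω)) (fun t => B (uu t)) ((ω : F) ^ 2) := hom_conj B ω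

theorem A_ww_sq : ∃ j : ℕ, A ww * A ww = A (dd ω) ^ j := by
  obtain ⟨j, hj⟩ := D.dd_eq_pow (-1)
  exact ⟨j, by rw [← map_mul, ww_sq, hj, map_pow]⟩

theorem B_ww_sq : ∃ j : ℕ, B ww * B ww = B (dd ω) ^ j := by
  obtain ⟨j, hj⟩ := D.dd_eq_pow (-1)
  exact ⟨j, by rw [← map_mul, ww_sq, hj, map_pow]⟩

theorem wa_inv_hb : (A ww)⁻¹ * B (dd ω) * A ww = A (dd ω) * B (dd ω) := by
  obtain ⟨j, hj⟩ := D.A_ww_sq
  calc (A ww)⁻¹ * B (dd ω) * A ww =
      (A ww * A ww)⁻¹ * (A ww * B (dd ω) * (A ww)⁻¹) * (A ww * A ww) := by group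
    _ = _ := by
        rw [hj, D.wa_hb, mul_assoc,
          ← (((Commute.refl _).pow_left j).mul_right (D.hab_comm.pow_left j)).eq, inv_mul_cancel_left]

theorem wb_inv_ha : (B ww)⁻¹ * A (dd ω) * B ww = A (dd ω) * B (dd ω) ^ 2 := by
  obtain ⟨j, hj⟩ := D.B_ww_sq
  calc (B ww)⁻¹ * A (dd ω) * B ww =
      (B ww * B ww)⁻¹ * (B ww * A (dd ω) * (B ww)⁻¹) * (B ww * B ww) := by group
    _ = _ := by
        rw [hj, D.wb_ha, mul_assoc,
          ← ((D.hab_comm.symm.pow_left j).mul_right ((Commute.refl _).pow_pow j 2)).eq,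
          inv_mul_cancel_left]

theorem rc_add (s t : F) : rc (⇑A) (⇑B) (s + t) = rc (⇑A) (⇑B) s * rc (⇑A) (⇑B) t := by
  simp only [rc, neg_add, uu_add, map_mul]; group

theorem rd_add (s t : F) : rd (⇑A) (⇑B) (s + t) = rd (⇑A) (⇑B) s * rd (⇑A) (⇑B) t := by
  simp only [rd, uu_add, map_mul]; group

theorem rc_zero : rc (⇑A) (⇑B) (0 : F) = 1 := by simp [rc, uu_zero]

theorem rd_zero : rd (⇑A) (⇑B) (0 : F) = 1 := by simp [rd, uu_zero]

theorem rc_neg (t : F) : rc (⇑A) (⇑B) (-t) = (rc (⇑A) (⇑B) t)⁻¹ := by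
  rw [eq_inv_iff_mul_eq_one, ← D.rc_add, neg_add_cancel, D.rc_zero]

theorem rd_neg (t : F) : rd (⇑A) (⇑B) (-t) = (rd (⇑A) (⇑B) t)⁻¹ := by
  rw [eq_inv_iff_mul_eq_one, ← D.rd_add, neg_add_cancel, D.rd_zero]

variable [Fintype F]

theorem surj_sq {p : ℕ} [Fact p.Prime] [Algebra (ZMod p) F] :
    Function.Surjective (aeval ((ω : F) ^ 2) : (ZMod p)[X] → F) := by
  classical
  have hq := Fintype.one_lt_card (α := F)
  have hgen : ∀ α : Fˣ, α ∈ Subgroup.zpowers ω := fun α => by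
    obtain ⟨j, hj⟩ := D.gen α α.ne_zero
    exact ⟨j, Units.ext (by simpa using hj.symm)⟩
  have hord : orderOf (ω : F) = Fintype.card F - 1 := by
    rw [orderOf_units, orderOf_eq_card_of_forall_mem_zpowers hgen, Nat.card_units,
      Nat.card_eq_fintype_card]
  have hg : Nat.gcd (Fintype.card F - 1) 2 ≤ 2 := Nat.le_of_dvd two_pos (Nat.gcd_dvd_right _ _)
  have hx : orderOf ((ω : F) ^ 2) = (Fintype.card F - 1) / Nat.gcd (Fintype.card F - 1) 2 := by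
    rw [orderOf_pow' _ two_ne_zero, hord]
  refine surjective_of_orderOf hx ?_ ?_
  · exact Nat.div_pos (Nat.le_of_dvd (by omega) (Nat.gcd_dvd_left _ _))
      (Nat.gcd_pos_of_pos_right _ two_pos)
  · obtain ⟨k, hk⟩ := Nat.gcd_dvd_left (Fintype.card F - 1) 2
    have h0 : 0 < Nat.gcd (Fintype.card F - 1) 2 := Nat.gcd_pos_of_pos_right _ two_pos
    have hdiv : (Fintype.card F - 1) / Nat.gcd (Fintype.card F - 1) 2 = k :=
      Nat.div_eq_of_eq_mul_right h0 hk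
    rw [hdiv]
    have : Nat.gcd (Fintype.card F - 1) 2 * k ≤ 2 * k := Nat.mul_le_mul_right _ hg
    omega

/-- Induction along the squares of `ω`. -/
theorem sq_induction (S : F → Prop) (h0 : S 0) (h1 : S 1) (hadd : ∀ s t, S s → S t → S (s + t))
    (hmul : ∀ t, S t → S ((ω : F) ^ 2 * t)) (t : F) : S t := by
  obtain ⟨p, hp⟩ := CharP.exists F
  haveI : Fact p.Prime := ⟨CharP.char_is_prime F p⟩
  letI : Algebra (ZMod p) F := ZMod.algebra F p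
  exact closed_all (D.surj_sq (p := p)) S h0 h1 hadd hmul t

theorem hb_a : Sc (B (dd ω)) (fun t => A (uu t)) (ω : F)⁻¹ :=
  D.sq_induction (fun t => B (dd ω) * A (uu t) * (B (dd ω))⁻¹ = A (uu ((ω : F)⁻¹ * t)))
    (by simp [uu_zero]) (by rw [mul_one]; exact D.hb_ua)
    (fun s t hs ht => by
      rw [mul_add, uu_add, uu_add, map_mul, map_mul, ← hs, ← ht]; group)
    (fun t ht => by
      rw [show (ω : F)⁻¹ * ((ω : F) ^ 2 * t) = (ω : F) ^ 2 * ((ω : F)⁻¹ * t) by ring,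
        ← hom_conj A ω, ← hom_conj A ω, ← ht]
      calc _ = B (dd ω) * A (dd ω) * A (uu t) * (B (dd ω) * A (dd ω))⁻¹ := by group
        _ = _ := by rw [← D.hab_comm.eq]; group)

theorem hahb_b : Sc (A (dd ω) * B (dd ω)) (fun t => B (uu t)) 1 :=
  D.sq_induction (fun t => A (dd ω) * B (dd ω) * B (uu t) * (A (dd ω) * B (dd ω))⁻¹ = B (uu (1 * t)))
    (by simp [uu_zero]) (by rw [D.ab_ub.eq, mul_inv_cancel_right, one_mul])
    (fun s t hs ht => by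
      rw [one_mul] at hs ht ⊢
      rw [uu_add, map_mul]
      nth_rewrite 2 [← hs]
      nth_rewrite 2 [← ht]
      group)
    (fun t ht => by
      rw [one_mul] at ht ⊢
      have hc : Commute (A (dd ω) * B (dd ω)) (B (dd ω)) := D.hab_comm.mul_left (Commute.refl _)
      rw [← hom_conj B ω]
      nth_rewrite 2 [← ht]
      calc _ = A (dd ω) * B (dd ω) * B (dd ω) * B (uu t) *
            (A (dd ω) * B (dd ω) * B (dd ω))⁻¹ := by group
        _ = _ := by rw [hc.eq]; group)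

theorem ha_b : Sc (A (dd ω)) (fun t => B (uu t)) (((ω : F) ^ 2)⁻¹) := by
  have h := D.hahb_b.mul (D.hb_b.inv (pow_ne_zero 2 ω.ne_zero))
  rwa [one_mul, mul_inv_cancel_right] at h

theorem ha_d : Sc (A (dd ω)) (rd (⇑A) (⇑B)) ((ω : F) ^ 2) :=
  ((D.ha_b.inv (inv_ne_zero (pow_ne_zero 2 ω.ne_zero))).congr (inv_inv _)).transfer (hom_ww_inv A ω)
    fun _ => rfl

theorem hb_d : Sc (B (dd ω)) (rd (⇑A) (⇑B)) 1 :=
  D.hahb_b.transfer D.wa_inv_hb fun _ => rfl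

theorem ha_c : Sc (A (dd ω)) (rc (⇑A) (⇑B)) 1 :=
  ((D.ha_a.mul (D.hb_a.pow 2)).congr (by have := ω.ne_zero; field_simp)).neg.transfer D.wb_inv_ha
    fun _ => rfl

theorem hb_c : Sc (B (dd ω)) (rc (⇑A) (⇑B)) (ω : F) :=
  ((D.hb_a.inv (inv_ne_zero ω.ne_zero)).congr (inv_inv _)).neg.transfer (hom_ww_inv B ω)
    fun _ => rfl

theorem wb_rd (t : F) : B ww * rd (⇑A) (⇑B) t * (B ww)⁻¹ = rd (⇑A) (⇑B) t := by
  refine D.sq_induction (fun t => B ww * rd (⇑A) (⇑B) t * (B ww)⁻¹ = rd (⇑A) (⇑B) t) (by simp [D.rd_zero])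
    D.wb_rd1 (fun s t hs ht => ?_) (fun t ht => ?_) t
  · rw [D.rd_add]
    nth_rewrite 2 [← hs]
    nth_rewrite 2 [← ht]
    group
  · have h2 : Sc (A (dd ω) * B (dd ω) ^ 2) (rd (⇑A) (⇑B)) ((ω : F) ^ 2) :=
      (D.ha_d.mul (D.hb_d.pow 2)).congr (by simp)
    nth_rewrite 1 [← D.ha_d t]
    calc B ww * (A (dd ω) * rd (⇑A) (⇑B) t * (A (dd ω))⁻¹) * (B ww)⁻¹
        = (B ww * A (dd ω) * (B ww)⁻¹) * (B ww * rd (⇑A) (⇑B) t * (B ww)⁻¹) *
          (B ww * A (dd ω) * (B ww)⁻¹)⁻¹ := by group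
      _ = _ := by rw [D.wb_ha, ht, h2]

theorem wa_rc (t : F) : A ww * rc (⇑A) (⇑B) t * (A ww)⁻¹ = rc (⇑A) (⇑B) (-t) := by
  refine D.sq_induction (fun t => A ww * rc (⇑A) (⇑B) t * (A ww)⁻¹ = rc (⇑A) (⇑B) (-t)) (by simp [D.rc_zero])
    D.wa_rc1 (fun s t hs ht => ?_) (fun t ht => ?_) t
  · rw [D.rc_add, neg_add, D.rc_add, ← hs, ← ht]; group
  · have h1 : Sc (A (dd ω) * B (dd ω)) (rc (⇑A) (⇑B)) (ω : F) :=
      (D.ha_c.mul D.hb_c).congr (one_mul _)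
    have h2 := h1.pow 2
    rw [← (D.hb_c.pow 2) t]
    calc A ww * (B (dd ω) ^ 2 * rc (⇑A) (⇑B) t * (B (dd ω) ^ 2)⁻¹) * (A ww)⁻¹
        = (A ww * B (dd ω) * (A ww)⁻¹) ^ 2 * (A ww * rc (⇑A) (⇑B) t * (A ww)⁻¹) *
          ((A ww * B (dd ω) * (A ww)⁻¹) ^ 2)⁻¹ := by rw [SLTwoPresent.pow_conj]; group
      _ = _ := by rw [D.wa_hb, ht, h2, mul_neg]

theorem ad (t : F) : Commute (A (uu 1)) (rd (⇑A) (⇑B) t) := by
  refine D.sq_induction (fun t => Commute (A (uu 1)) (rd (⇑A) (⇑B) t)) (by simp [D.rd_zero]) D.ad1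
    (fun s t hs ht => by rw [D.rd_add]; exact hs.mul_right ht) (fun t ht => ?_) t
  have h1 : Sc (A (dd ω) * B (dd ω) ^ 2) (fun t => A (uu t)) 1 :=
    (D.ha_a.mul (D.hb_a.pow 2)).congr (by have := ω.ne_zero; field_simp)
  have h2 : Sc (A (dd ω) * B (dd ω) ^ 2) (rd (⇑A) (⇑B)) ((ω : F) ^ 2) :=
    (D.ha_d.mul (D.hb_d.pow 2)).congr (by simp)
  have h3 := h2.commute ht
  rwa [h1 1, mul_one] at h3

theorem bc (s t : F) : Commute (B (uu s)) (rc (⇑A) (⇑B) t) := by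
  refine D.sq_induction (fun s => ∀ t, Commute (B (uu s)) (rc (⇑A) (⇑B) t))
    (fun t => by simp [uu_zero]) ?_
    (fun r s hr hs t => by rw [uu_add, map_mul]; exact (hr t).mul_left (hs t))
    (fun s hs t => ?_) s t
  · intro t
    refine D.sq_induction (fun t => Commute (B (uu 1)) (rc (⇑A) (⇑B) t)) (by simp [D.rc_zero]) D.bc1
      (fun r s hr hs => by rw [D.rc_add]; exact hr.mul_right hs) (fun t ht => ?_) t
    have h2 : Sc ((A (dd ω) * B (dd ω)) ^ 2) (rc (⇑A) (⇑B)) ((ω : F) ^ 2) :=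
      (((D.ha_c.mul D.hb_c).congr (one_mul (ω : F))).pow 2)
    have h3 := h2.commute ht
    rwa [(D.hahb_b.pow 2) 1, one_pow, mul_one] at h3
  · have h3 := D.hb_c.commute (hs ((ω : F)⁻¹ * t))
    rwa [D.hb_b s, ← mul_assoc, mul_inv_cancel₀ ω.ne_zero, one_mul] at h3

theorem bd (s t : F) : Commute (B (uu s)) (rd (⇑A) (⇑B) t) := by
  refine D.sq_induction (fun s => ∀ t, Commute (B (uu s)) (rd (⇑A) (⇑B) t))
    (fun t => by simp [uu_zero]) ?_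
    (fun r s hr hs t => by rw [uu_add, map_mul]; exact (hr t).mul_left (hs t))
    (fun s hs t => ?_) s t
  · intro t
    refine D.sq_induction (fun t => Commute (B (uu 1)) (rd (⇑A) (⇑B) t)) (by simp [D.rd_zero]) D.bd1
      (fun r s hr hs => by rw [D.rd_add]; exact hr.mul_right hs) (fun t ht => ?_) t
    have h2 : Sc (A (dd ω) * B (dd ω)) (rd (⇑A) (⇑B)) ((ω : F) ^ 2) :=
      (D.ha_d.mul D.hb_d).congr (mul_one _)
    have h3 := h2.commute ht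
    rwa [D.hahb_b 1, mul_one] at h3
  · have h3 := D.hb_d.commute (hs t)
    rwa [D.hb_b s, one_mul] at h3

theorem cd (s t : F) : Commute (rc (⇑A) (⇑B) s) (rd (⇑A) (⇑B) t) := by
  have h := (D.bc t (-s)).map (MulAut.conj (A ww))
  simp only [MulAut.conj_apply] at h
  rw [D.wa_rc, neg_neg] at h
  exact h.symm

end

end Data

end CfsgLib.SpFourPresent
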