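import Cfsg.Agent.Lib.SpFourPresent.Data
import Cfsg.Agent.Lib.Sp.Group

/-!
The two copies of `SL_2` in `Sp_4`.
-/

set_option autoImplicit false

namespace CfsgLib.SpFourPresent

open Matrix SLTwoPresent CfsgLib.Sp

variable {F : Type*} [Field F]

local notation "SL2" => Matrix.SpecialLinearGroup (Fin 2) F
local notation "Sp4" => Matrix.symplecticGroup (Fin 2) F

theorem det_two_eq (M : Matrix.SpecialLinearGroup (Fin 2) F) :
    M.1 0 0 * M.1 1 1 - M.1 0 1 * M.1 1 0 = 1 := by
  have h := M.2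
  rwa [Matrix.det_fin_two] at h

/-- `SL_2` on the short root. -/
def embA : Matrix.SpecialLinearGroup (Fin 2) F →* Matrix.symplecticGroup (Fin 2) F where
  toFun M := ⟨fromBlocks M.1 0 0 !![M.1 1 1, -M.1 1 0; -M.1 0 1, M.1 0 0], by
    rw [SymplecticGroup.fromBlocks_mem_iff]
    refine ⟨by simp, by simp, ?_⟩
    have h := det_two_eq M
    ext i j
    fin_cases i <;> fin_cases j <;> simp [Matrix.mul_apply, Fin.sum_univ_two] <;>
      first | linear_combination h | linear_combination -h | ring⟩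
  map_one' := by
    apply Subtype.ext
    show fromBlocks _ _ _ _ = (1 : Matrix (Fin 2 ⊕ Fin 2) (Fin 2 ⊕ Fin 2) F)
    rw [← fromBlocks_one]
    simp [Matrix.one_fin_two]
  map_mul' M N := by
    apply Subtype.ext
    show fromBlocks _ _ _ _ = fromBlocks _ _ _ _ * fromBlocks _ _ _ _
    rw [fromBlocks_multiply]
    simp [Matrix.SpecialLinearGroup.coe_mul, Matrix.mul_apply, Fin.sum_univ_two]
    refine ⟨?_, ?_⟩ <;> ring

/-- `SL_2` on the long root. -/
def embB : Matrix.SpecialLinearGroup (Fin 2) F →* Matrix.symplecticGroup (Fin 2) F where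
  toFun M := ⟨fromBlocks !![1, 0; 0, M.1 0 0] !![0, 0; 0, M.1 0 1] !![0, 0; 0, M.1 1 0]
      !![1, 0; 0, M.1 1 1], by
    rw [SymplecticGroup.fromBlocks_mem_iff]
    have h := det_two_eq M
    refine ⟨?_, ?_, ?_⟩ <;> ext i j <;>
      fin_cases i <;> fin_cases j <;> simp [Matrix.mul_apply, Fin.sum_univ_two] <;>
      first | linear_combination h | linear_combination -h | ring⟩
  map_one' := by
    apply Subtype.ext
    show fromBlocks _ _ _ _ = (1 : Matrix (Fin 2 ⊕ Fin 2) (Fin 2 ⊕ Fin 2) F)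
    rw [← fromBlocks_one]
    simp [Matrix.one_fin_two, ← Matrix.ext_iff, Fin.forall_fin_two]
  map_mul' M N := by
    apply Subtype.ext
    show fromBlocks _ _ _ _ = fromBlocks _ _ _ _ * fromBlocks _ _ _ _
    rw [fromBlocks_multiply]
    simp [Matrix.SpecialLinearGroup.coe_mul, Matrix.mul_apply, Fin.sum_univ_two]

theorem coe_embA (M : Matrix.SpecialLinearGroup (Fin 2) F) :
    (embA M : Matrix (Fin 2 ⊕ Fin 2) (Fin 2 ⊕ Fin 2) F) =
      fromBlocks M.1 0 0 !![M.1 1 1, -M.1 1 0; -M.1 0 1, M.1 0 0] := rfl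

theorem coe_embB (M : Matrix.SpecialLinearGroup (Fin 2) F) :
    (embB M : Matrix (Fin 2 ⊕ Fin 2) (Fin 2 ⊕ Fin 2) F) =
      fromBlocks !![1, 0; 0, M.1 0 0] !![0, 0; 0, M.1 0 1] !![0, 0; 0, M.1 1 0]
        !![1, 0; 0, M.1 1 1] := rfl

/-- A Siegel element. -/
def sieg (x y z : F) : Matrix.symplecticGroup (Fin 2) F :=
  ⟨fromBlocks 1 !![x, y; y, z] 0 1, by
    rw [SymplecticGroup.fromBlocks_mem_iff]
    refine ⟨by simp, ?_, by simp⟩
    simp [← Matrix.ext_iff, Fin.forall_fin_two]⟩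

theorem coe_sieg (x y z : F) : (sieg x y z : Matrix (Fin 2 ⊕ Fin 2) (Fin 2 ⊕ Fin 2) F) =
    fromBlocks 1 !![x, y; y, z] 0 1 := rfl

theorem sieg_mul (x y z x' y' z' : F) :
    sieg x y z * sieg x' y' z' = sieg (x + x') (y + y') (z + z') := by
  apply Subtype.ext
  simp only [Submonoid.coe_mul, coe_sieg, fromBlocks_multiply]
  simp [add_comm]

theorem sieg_comm (x y z x' y' z' : F) : Commute (sieg x y z) (sieg x' y' z') := by
  show sieg x y z * sieg x' y' z' = sieg x' y' z' * sieg x y z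
  rw [sieg_mul, sieg_mul, add_comm x, add_comm y, add_comm z]

theorem embB_uu (t : F) : embB (uu t) = sieg 0 0 t := by
  apply Subtype.ext
  rw [coe_embB, coe_sieg]
  simp [uu, Matrix.one_fin_two, ← Matrix.ext_iff, Fin.forall_fin_two]

theorem rd_eq (t : F) : rd (⇑(embA (F := F))) (⇑embB) t = sieg t 0 0 := by
  rw [rd, mul_inv_eq_iff_eq_mul, embB_uu]
  apply Subtype.ext
  simp only [Submonoid.coe_mul, coe_sieg, coe_embA, fromBlocks_multiply]
  simp [ww, Matrix.one_fin_two, funext_iff, Fin.forall_fin_two]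

theorem rc_eq (t : F) : rc (⇑(embA (F := F))) (⇑embB) t = sieg 0 t 0 := by
  rw [rc, mul_inv_eq_iff_eq_mul]
  apply Subtype.ext
  simp only [Submonoid.coe_mul, coe_sieg, coe_embA, coe_embB, fromBlocks_multiply]
  simp [ww, uu, Matrix.one_fin_two, funext_iff, Fin.forall_fin_two]

theorem link_rels_hold (ω : Fˣ) :
    ∀ r ∈ linkRels (⇑(embA (F := F))) (⇑embB) ω, r = 1 := by
  intro r hr
  simp only [linkRels, rd_eq, rc_eq, embB_uu, List.mem_cons, List.not_mem_nil, or_false] at hr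
  rcases hr with rfl | rfl | rfl | rfl | rfl | rfl | rfl | rfl | rfl | rfl | rfl | rfl | rfl <;>
    rw [mul_inv_eq_one]
  case _ =>
    apply Subtype.ext
    simp only [Submonoid.coe_mul, coe_embA, coe_embB, fromBlocks_multiply]
    simp [dd, mul_comm]
  case _ =>
    rw [mul_inv_eq_iff_eq_mul]
    apply Subtype.ext
    simp only [Submonoid.coe_mul, coe_embA, coe_embB, fromBlocks_multiply]
    simp [dd, ww, funext_iff, Fin.forall_fin_two]
  case _ =>
    rw [mul_inv_eq_iff_eq_mul, sq]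
    apply Subtype.ext
    simp only [Submonoid.coe_mul, coe_embA, coe_embB, fromBlocks_multiply]
    simp [dd, ww, funext_iff, Fin.forall_fin_two]
  case _ =>
    apply Subtype.ext
    simp only [Submonoid.coe_mul, coe_sieg, coe_embA, coe_embB, fromBlocks_multiply]
    simp [dd, Matrix.one_fin_two, funext_iff, Fin.forall_fin_two]
  case _ =>
    rw [mul_inv_eq_iff_eq_mul]
    apply Subtype.ext
    simp only [Submonoid.coe_mul, coe_embA, coe_embB, fromBlocks_multiply]
    simp [dd, uu, funext_iff, Fin.forall_fin_two]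
  case _ =>
    apply Subtype.ext
    simp only [Submonoid.coe_mul, coe_embA, coe_embB, fromBlocks_multiply]
    simp [ww, funext_iff, Fin.forall_fin_two]
  case _ =>
    rw [mul_inv_eq_iff_eq_mul]
    apply Subtype.ext
    simp only [Submonoid.coe_mul, coe_sieg, coe_embA, coe_embB, fromBlocks_multiply]
    simp [ww, Matrix.one_fin_two, funext_iff, Fin.forall_fin_two]
  case _ =>
    rw [mul_inv_eq_iff_eq_mul]
    apply Subtype.ext
    simp only [Submonoid.coe_mul, coe_sieg, coe_embA, coe_embB, fromBlocks_multiply]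
    simp [ww, Matrix.one_fin_two, funext_iff, Fin.forall_fin_two]
  case _ =>
    apply Subtype.ext
    simp only [Submonoid.coe_mul, coe_sieg, coe_embA, coe_embB, fromBlocks_multiply]
    simp [uu, Matrix.one_fin_two, funext_iff, Fin.forall_fin_two]
  case _ => exact (sieg_comm _ _ _ _ _ _).eq
  case _ => exact (sieg_comm _ _ _ _ _ _).eq
  case _ =>
    rw [mul_inv_eq_iff_eq_mul]
    apply Subtype.ext
    simp only [Submonoid.coe_mul, coe_sieg, coe_embA, coe_embB, fromBlocks_multiply]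
    simp [uu, Matrix.one_fin_two, funext_iff, Fin.forall_fin_two]
  case _ =>
    rw [mul_inv_eq_iff_eq_mul]
    apply Subtype.ext
    simp only [Submonoid.coe_mul, coe_sieg, coe_embA, coe_embB, fromBlocks_multiply]
    simp [uu, Matrix.one_fin_two, funext_iff, Fin.forall_fin_two]

theorem exists_sl2_col (x y : F) (h : x ≠ 0 ∨ y ≠ 0) :
    ∃ M : Matrix.SpecialLinearGroup (Fin 2) F, M.1 0 0 = x ∧ M.1 1 0 = y := by
  rcases eq_or_ne x 0 with hx | hx
  · have hy : y ≠ 0 := by tauto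
    refine ⟨⟨!![0, -y⁻¹; y, 0], by simp [Matrix.det_fin_two, inv_mul_cancel₀ hy]⟩, ?_, ?_⟩ <;> simp [hx]
  · refine ⟨⟨!![x, 0; y, x⁻¹], by simp [Matrix.det_fin_two, mul_inv_cancel₀ hx]⟩, ?_, ?_⟩ <;> simp

/-- The two copies generate. -/
theorem eq_top_of_emb {K : Subgroup (Matrix.symplecticGroup (Fin 2) F)}
    (hA : ∀ M, embA M ∈ K) (hB : ∀ M, embB M ∈ K) : K = ⊤ := by
  set e1 : Fin 2 ⊕ Fin 2 → F := Pi.single (Sum.inl 0) 1 with he1
  -- the conjugate of the long root copy
  have htr : ∀ v : Fin 2 ⊕ Fin 2 → F, v ≠ 0 → ∃ k ∈ K, k.1 *ᵥ e1 = v := by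
    intro v hv
    -- pairs of coordinates
    obtain ⟨a, b, c, d, rfl⟩ : ∃ a b c d : F, v = Sum.elim ![a, b] ![c, d] :=
      ⟨v (.inl 0), v (.inl 1), v (.inr 0), v (.inr 1), by
        funext i; rcases i with i | i <;> fin_cases i <;> rfl⟩
    set wa := embA (ww : SL2) with hwa
    have hw : wa ∈ K := hA _
    have hw' : wa⁻¹ ∈ K := K.inv_mem hw
    obtain ⟨M, hM1, hM2⟩ : ∃ M : Matrix.SpecialLinearGroup (Fin 2) F,
        (a ≠ 0 ∨ c ≠ 0 → M.1 0 0 = a ∧ M.1 1 0 = c) ∧ (¬(a ≠ 0 ∨ c ≠ 0) → M = 1) := by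
      by_cases h : a ≠ 0 ∨ c ≠ 0
      · obtain ⟨M, h1, h2⟩ := exists_sl2_col a c h
        exact ⟨M, fun _ => ⟨h1, h2⟩, fun h' => absurd h h'⟩
      · exact ⟨1, fun h' => absurd h' h, fun _ => rfl⟩
    obtain ⟨N, hN1, hN2⟩ : ∃ N : Matrix.SpecialLinearGroup (Fin 2) F,
        (b ≠ 0 ∨ d ≠ 0 → N.1 0 0 = b ∧ N.1 1 0 = d) ∧ (¬(b ≠ 0 ∨ d ≠ 0) → N = 1) := by
      by_cases h : b ≠ 0 ∨ d ≠ 0
      · obtain ⟨M, h1, h2⟩ := exists_sl2_col b d h
        exact ⟨M, fun _ => ⟨h1, h2⟩, fun h' => absurd h h'⟩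
      · exact ⟨1, fun h' => absurd h' h, fun _ => rfl⟩
    have hstart : ∀ s t : F, s ≠ 0 ∨ t ≠ 0 → ∃ k ∈ K, k.1 *ᵥ e1 = Sum.elim ![s, t] ![0, 0] := by
      intro s t hst
      obtain ⟨L, h1, h2⟩ := exists_sl2_col s t hst
      refine ⟨embA L, hA _, ?_⟩
      funext i
      rcases i with i | i <;> fin_cases i <;>
        simp [he1, coe_embA, Matrix.mulVec, dotProduct, Fintype.sum_sum_type, Fin.sum_univ_two, h1,
          h2]
    classical
    set s : F := if a ≠ 0 ∨ c ≠ 0 then 1 else 0 with hs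
    set t : F := if b ≠ 0 ∨ d ≠ 0 then 1 else 0 with ht
    obtain ⟨k, hk, hk1⟩ := hstart s t (by
      by_contra h
      simp only [not_or, not_not] at h
      rw [hs, ht] at h
      obtain ⟨h1, h2⟩ := h
      split_ifs at h1 with g1
      · exact one_ne_zero h1
      split_ifs at h2 with g2
      · exact one_ne_zero h2
      simp only [not_or, not_not] at g1 g2
      apply hv
      funext i; rcases i with i | i <;> fin_cases i <;> simp [g1, g2])
    refine ⟨embB N * (wa * embB M * wa⁻¹) * k,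
      K.mul_mem (K.mul_mem (hB _) (K.mul_mem (K.mul_mem hw (hB _)) hw')) hk, ?_⟩
    have hwinv : wa⁻¹ = embA ((ww : SL2)⁻¹) := (map_inv _ _).symm
    rw [Submonoid.coe_mul, ← mulVec_mulVec, hk1, hwinv, hwa]
    simp only [Submonoid.coe_mul, coe_embA, coe_embB, ← mulVec_mulVec,
      Matrix.SpecialLinearGroup.coe_inv, fromBlocks_mulVec]
    funext i
    rcases i with i | i <;> fin_cases i <;>
      simp [ww, Matrix.mulVec, dotProduct, Fin.sum_univ_two, Matrix.adjugate_fin_two, hs, ht] <;>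
      split_ifs with g <;>
      first
        | simp [hM1 g]
        | simp [hN1 g]
        | (simp only [not_or, not_not] at g; simp [g])
  refine le_of_tmat_mem fun v c => ?_
  rcases eq_or_ne v 0 with rfl | hv
  · rw [show tmat (0 : Fin 2 ⊕ Fin 2 → F) c = 1 by
      apply Subtype.ext; simp [tmat, Cfsg.sympTransvection]]
    exact K.one_mem
  · obtain ⟨k, hk, rfl⟩ := htr v hv
    rw [← conj_tmat]
    refine K.mul_mem (K.mul_mem hk ?_) (K.inv_mem hk)
    have h1 : tmat e1 c = sieg (-c) 0 0 ∨ tmat e1 c = sieg c 0 0 := by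
      first
        | (left; apply Subtype.ext; ext i j
           rcases i with i | i <;> rcases j with j | j <;> fin_cases i <;> fin_cases j <;>
             simp [tmat, Cfsg.sympTransvection, he1, coe_sieg, Matrix.J, Matrix.mulVec, dotProduct,
               vecMulVec_apply, Fintype.sum_sum_type, Fin.sum_univ_two]
           done)
        | (right; apply Subtype.ext; ext i j
           rcases i with i | i <;> rcases j with j | j <;> fin_cases i <;> fin_cases j <;>
             simp [tmat, Cfsg.sympTransvection, he1, coe_sieg, Matrix.J, Matrix.mulVec, dotProduct,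
               vecMulVec_apply, Fintype.sum_sum_type, Fin.sum_univ_two]
           done)
    rcases h1 with h1 | h1 <;> rw [h1, ← rd_eq] <;>
      exact K.mul_mem (K.mul_mem (hA _) (hB _)) (K.inv_mem (hA _))

end CfsgLib.SpFourPresent
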