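import Cfsg.Agent.Lib.SpFourPresent.Bound
import Cfsg.Agent.Lib.SpFourPresent.Target
import Cfsg.Agent.Lib.Sp.Card
import Cfsg.Agent.Lib.SLTwoPresent.Even

/-!
Presentations of `Sp_4(q)` and `PSp_4(q)` on six generators.
-/

set_option autoImplicit false

namespace CfsgLib.SpFourPresent

open SLTwoPresent Matrix

variable {F : Type*} [Field F] [Fintype F]

local notation "SL2" => Matrix.SpecialLinearGroup (Fin 2) F
local notation "Sp4" => Matrix.symplecticGroup (Fin 2) F

/-- An order bound turns relations into a presentation, on any finite generator type. -/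
theorem exists_presentation_fin {m : ℕ} {T : Type*} [Group T] [Finite T] (e : Fin m → T)
    (hgen : Subgroup.closure (Set.range e) = ⊤) (L : List (FreeGroup (Fin m))) {k : ℕ}
    (hk : L.length ≤ k) (hT : ∀ r ∈ L, FreeGroup.lift e r = 1)
    (hbound : ∀ (G : Type) (_ : Group G) (f : FreeGroup (Fin m) →* G), Function.Surjective f →
      (∀ r ∈ L, f r = 1) → Finite G ∧ Nat.card G ≤ Nat.card T) :
    (∃ rels : Finset (FreeGroup (Fin m)), rels.card ≤ k ∧
      Nonempty (PresentedGroup (↑rels : Set (FreeGroup (Fin m))) ≃* T)) ∧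
    ∀ (G : Type) (_ : Group G) (f : FreeGroup (Fin m) →* G), (∀ r ∈ L, f r = 1) →
      ∃ π : T →* G, ∀ r, π (FreeGroup.lift e r) = f r := by
  classical
  have hrels : ∀ r ∈ (↑L.toFinset : Set (FreeGroup (Fin m))), FreeGroup.lift e r = 1 :=
    fun r hr => hT r (List.mem_toFinset.1 hr)
  let φ : PresentedGroup (↑L.toFinset : Set (FreeGroup (Fin m))) →* T := PresentedGroup.toGroup hrels
  have hφ : φ.comp (PresentedGroup.mk _) = FreeGroup.lift e :=
    FreeGroup.ext_hom _ _ fun i => by
      rw [MonoidHom.comp_apply, FreeGroup.lift_apply_of]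
      show φ (PresentedGroup.of i) = _
      simp [φ]
  have hsurj : Function.Surjective φ := by
    rw [← MonoidHom.range_eq_top, eq_top_iff, ← hgen, Subgroup.closure_le]
    rintro a ⟨i, rfl⟩
    exact ⟨PresentedGroup.of i, by simp [φ]⟩
  obtain ⟨hfin, hle⟩ := hbound _ inferInstance (PresentedGroup.mk _) (QuotientGroup.mk'_surjective _)
    (fun r hr => PresentedGroup.one_of_mem (List.mem_toFinset.2 hr))
  have hbij : Function.Bijective φ := (Nat.bijective_iff_surjective_and_card φ).2
    ⟨hsurj, le_antisymm hle (Nat.card_le_card_of_surjective φ hsurj)⟩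
  refine ⟨⟨L.toFinset, (List.toFinset_card_le L).trans hk, ⟨MulEquiv.ofBijective φ hbij⟩⟩,
    fun G _ f hf => ?_⟩
  have hlift : FreeGroup.lift (fun i => f (FreeGroup.of i)) = f := FreeGroup.ext_hom _ _ (by simp)
  let ψ : PresentedGroup (↑L.toFinset : Set (FreeGroup (Fin m))) →* G :=
    PresentedGroup.toGroup (f := fun i => f (FreeGroup.of i)) fun r hr => by
      rw [hlift]; exact hf r (List.mem_toFinset.1 hr)
  have hψ : ψ.comp (PresentedGroup.mk _) = f :=
    FreeGroup.ext_hom _ _ fun i => by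
      rw [MonoidHom.comp_apply]
      show ψ (PresentedGroup.of i) = _
      simp [ψ]
  refine ⟨ψ.comp (MulEquiv.ofBijective φ hbij).symm.toMonoidHom, fun r => ?_⟩
  rw [← hφ, MonoidHom.comp_apply, MonoidHom.comp_apply]
  show ψ ((MulEquiv.ofBijective φ hbij).symm
    (MulEquiv.ofBijective φ hbij (PresentedGroup.mk _ r))) = _
  rw [MulEquiv.symm_apply_apply, ← MonoidHom.comp_apply, hψ]

/-- The short presentation of `SL_2` with its generators. -/
theorem exists_sl_two_rels : ∃ ω : Fˣ, (∀ t : F, t ≠ 0 → ∃ j : ℕ, t = (ω : F) ^ j) ∧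
    ∃ rels : Finset (FreeGroup (Fin 3)), rels.card ≤ 9 ∧ Presents (uu (1 : F)) (dd ω) ww rels := by
  obtain ⟨p, hp⟩ := CharP.exists F
  haveI : Fact p.Prime := ⟨CharP.char_is_prime F p⟩
  letI : Algebra (ZMod p) F := ZMod.algebra F p
  rcases eq_or_ne p 2 with rfl | hp2
  · obtain ⟨ω, hω, rels, hle, hP⟩ := even_main (F := F)
    exact ⟨ω, hω, rels, by omega, hP⟩
  · obtain ⟨ω, hω, h, -⟩ := odd_main (F := F) (p := p) hp2
    exact ⟨ω, hω, h⟩

theorem card_sp_four : Nat.card Sp4 =
    (Fintype.card F ^ 3 + Fintype.card F ^ 2 + Fintype.card F + 1) *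
      (Fintype.card F ^ 3 * (Nat.card SL2 * (Fintype.card F - 1))) := by
  obtain ⟨r, hr⟩ : ∃ r, Fintype.card F = r + 1 := ⟨Fintype.card F - 1, by
    have := Fintype.one_lt_card (α := F); omega⟩
  rw [CfsgLib.Sp.card_symplecticGroup hr, CfsgLib.ClassicalGroups.slTwo_card, hr,
    Finset.prod_range_succ, Finset.prod_range_one]
  simp only [Nat.add_sub_cancel, zero_add, mul_one, show 2 * (1 + 1) = 4 from rfl]
  rw [Nat.sub_eq_of_eq_add (show (r + 1) ^ 2 = r * (r + 2) + 1 by ring),
    Nat.sub_eq_of_eq_add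
      (show (r + 1) ^ 4 = r * ((r + 1) ^ 3 + (r + 1) ^ 2 + (r + 1) + 1) + 1 by ring)]
  ring

theorem neg_one_coe : (embA (dd (-1 : Fˣ)) : Sp4).1 = -1 := by
  rw [coe_embA, ← fromBlocks_one, fromBlocks_neg]
  simp [dd, Matrix.one_fin_two]

/-- The presentations. -/
theorem main :
    (∃ rels : Finset (FreeGroup (Fin 6)), rels.card ≤ 35 ∧
      Nonempty (PresentedGroup (↑rels : Set (FreeGroup (Fin 6))) ≃* Sp4)) ∧
    (∃ rels : Finset (FreeGroup (Fin 6)), rels.card ≤ 36 ∧
      Nonempty (PresentedGroup (↑rels : Set (FreeGroup (Fin 6))) ≃* Cfsg.PSp 2 F)) := by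
  classical
  obtain ⟨ω, hω, R, hR, hP⟩ := exists_sl_two_rels (F := F)
  have hstd := hP.closure_eq_top
  set g3 : Fin 3 → SL2 := ![uu 1, dd ω, ww] with hg3
  have hsurj3 : Function.Surjective (FreeGroup.lift g3) := by
    rw [← MonoidHom.range_eq_top, FreeGroup.range_lift_eq_closure, ← hstd]
    congr 1
    ext a
    simp [g3, Fin.exists_fin_succ, eq_comm]
    tauto
  choose σ hσ using hsurj3
  have hR1 : ∀ r ∈ R, FreeGroup.lift g3 r = 1 := by
    obtain ⟨e, h0, h1, h2⟩ := hP
    have he : e.toMonoidHom.comp (PresentedGroup.mk _) = FreeGroup.lift g3 :=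
      FreeGroup.ext_hom _ _ fun i => by
        fin_cases i
        · simpa [g3, PresentedGroup.of] using h0
        · simpa [g3, PresentedGroup.of] using h1
        · simpa [g3, PresentedGroup.of] using h2
    intro r hr
    rw [← he, MonoidHom.comp_apply, PresentedGroup.one_of_mem hr, map_one]
  let ιA : FreeGroup (Fin 3) →* FreeGroup (Fin 6) := FreeGroup.map ![0, 1, 2]
  let ιB : FreeGroup (Fin 3) →* FreeGroup (Fin 6) := FreeGroup.map ![3, 4, 5]
  let sA : SL2 → FreeGroup (Fin 6) := fun x => ιA (σ x)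
  let sB : SL2 → FreeGroup (Fin 6) := fun x => ιB (σ x)
  let L : List (FreeGroup (Fin 6)) :=
    R.toList.map ιA ++ (R.toList.map ιB ++ linkRels sA sB ω)
  set g6 : Fin 6 → Sp4 := ![embA (uu 1), embA (dd ω), embA ww, embB (uu 1), embB (dd ω), embB ww]
    with hg6
  have hA6 : (FreeGroup.lift g6).comp ιA = (embA (F := F)).comp (FreeGroup.lift g3) :=
    FreeGroup.ext_hom _ _ fun i => by fin_cases i <;> simp [ιA, g6, g3]
  have hB6 : (FreeGroup.lift g6).comp ιB = (embB (F := F)).comp (FreeGroup.lift g3) :=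
    FreeGroup.ext_hom _ _ fun i => by fin_cases i <;> simp [ιB, g6, g3]
  have hsA : ∀ x, FreeGroup.lift g6 (sA x) = embA x := fun x => by
    have := DFunLike.congr_fun hA6 (σ x)
    simpa [sA, hσ] using this
  have hsB : ∀ x, FreeGroup.lift g6 (sB x) = embB x := fun x => by
    have := DFunLike.congr_fun hB6 (σ x)
    simpa [sB, hσ] using this
  have hT : ∀ r ∈ L, FreeGroup.lift g6 r = 1 := by
    intro r hr
    simp only [L, List.mem_append, List.mem_map, Finset.mem_toList] at hr
    rcases hr with ⟨s, hs, rfl⟩ | ⟨s, hs, rfl⟩ | hr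
    · rw [← MonoidHom.comp_apply, hA6, MonoidHom.comp_apply, hR1 s hs, map_one]
    · rw [← MonoidHom.comp_apply, hB6, MonoidHom.comp_apply, hR1 s hs, map_one]
    · have h1 := List.mem_map_of_mem (f := FreeGroup.lift g6) hr
      rw [map_linkRels] at h1
      simp only [hsA, hsB] at h1
      exact link_rels_hold ω _ h1
  have hgen6 : Subgroup.closure (Set.range g6) = ⊤ := by
    rw [← FreeGroup.range_lift_eq_closure]
    refine eq_top_of_emb (fun M => ⟨_, hsA M⟩) (fun M => ⟨_, hsB M⟩)
  have hlen : L.length ≤ 35 := by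
    simp only [L, List.length_append, List.length_map, Finset.length_toList]
    simp [linkRels]
    omega
  have hbound : ∀ (G : Type) (_ : Group G) (f : FreeGroup (Fin 6) →* G), Function.Surjective f →
      (∀ r ∈ L, f r = 1) → Finite G ∧ Nat.card G ≤ Nat.card Sp4 := by
    intro G _ f hf hrel
    simp only [L, List.mem_append, List.mem_map, Finset.mem_toList] at hrel
    obtain ⟨A, hA0, hA1, hA2⟩ := hP.exists_hom (f.comp ιA)
      (fun r hr => hrel _ (Or.inl ⟨r, hr, rfl⟩))
    obtain ⟨B, hB0, hB1, hB2⟩ := hP.exists_hom (f.comp ιB)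
      (fun r hr => hrel _ (Or.inr (Or.inl ⟨r, hr, rfl⟩)))
    have hAf : A.comp (FreeGroup.lift g3) = f.comp ιA := FreeGroup.ext_hom _ _ fun i => by
      fin_cases i
      · simpa [g3] using hA0
      · simpa [g3] using hA1
      · simpa [g3] using hA2
    have hBf : B.comp (FreeGroup.lift g3) = f.comp ιB := FreeGroup.ext_hom _ _ fun i => by
      fin_cases i
      · simpa [g3] using hB0
      · simpa [g3] using hB1
      · simpa [g3] using hB2
    have hAx : ∀ x, f (sA x) = A x := fun x => by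
      have := DFunLike.congr_fun hAf (σ x)
      simpa [sA, hσ] using this.symm
    have hBx : ∀ x, f (sB x) = B x := fun x => by
      have := DFunLike.congr_fun hBf (σ x)
      simpa [sB, hσ] using this.symm
    have D : Data A B ω := ⟨hω, hstd, fun r hr => by
      have e : linkRels (⇑A) (⇑B) ω = (linkRels sA sB ω).map f := by
        rw [map_linkRels]; simp only [hAx, hBx]
      rw [e, List.mem_map] at hr
      obtain ⟨s, hs, rfl⟩ := hr
      exact hrel s (Or.inr (Or.inr hs))⟩
    rw [card_sp_four]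
    refine D.card_le ?_
    have hcl : Subgroup.closure (Set.range fun i => f (FreeGroup.of i)) = ⊤ := by
      rw [← FreeGroup.range_lift_eq_closure,
        show FreeGroup.lift (fun i => f (FreeGroup.of i)) = f from FreeGroup.ext_hom _ _ (by simp)]
      exact MonoidHom.range_eq_top.2 hf
    rw [← top_le_iff, ← hcl, Subgroup.closure_le]
    simp [ιA, ιB] at hA0 hA1 hA2 hB0 hB1 hB2
    rintro a ⟨i, rfl⟩
    refine Subgroup.subset_closure ?_
    fin_cases i <;> simp [hA0, hA1, hA2, hB0, hB1, hB2]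
  obtain ⟨hSp, huniv⟩ := exists_presentation_fin g6 hgen6 L hlen hT hbound
  refine ⟨hSp, ?_⟩
  set q := QuotientGroup.mk' (Subgroup.center Sp4) with hq
  set z : Sp4 := embA (dd (-1)) with hz
  have hzc : z ∈ Subgroup.center Sp4 := CfsgLib.Sp.mem_center_iff.2 (Or.inr neg_one_coe)
  refine (exists_presentation_fin (fun i => q (g6 i)) ?_ (sA (dd (-1)) :: L) (k := 36) ?_ ?_ ?_).1
  · rw [show (fun i => q (g6 i)) = q ∘ g6 from rfl, Set.range_comp, ← MonoidHom.map_closure, hgen6,
      Subgroup.map_top_of_surjective q (QuotientGroup.mk'_surjective _)]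
  · simp only [List.length_cons]; omega
  · have hl : FreeGroup.lift (fun i => q (g6 i)) = q.comp (FreeGroup.lift g6) :=
      FreeGroup.ext_hom _ _ (by simp)
    intro r hr
    rw [hl, MonoidHom.comp_apply]
    rcases List.mem_cons.1 hr with rfl | hr
    · rw [hsA]; exact (QuotientGroup.eq_one_iff _).2 hzc
    · rw [hT r hr, map_one]
  · intro G _ f hf hrel
    obtain ⟨π, hπ⟩ := huniv G inferInstance f fun r hr => hrel r (List.mem_cons_of_mem _ hr)
    have hπz : π z = 1 := by
      rw [hz, ← hsA, hπ]; exact hrel _ List.mem_cons_self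
    have hker : Subgroup.center Sp4 ≤ π.ker := by
      intro a ha
      rw [MonoidHom.mem_ker]
      rcases CfsgLib.Sp.mem_center_iff.1 ha with h | h
      · rw [show a = 1 from Subtype.ext h, map_one]
      · rw [show a = z from Subtype.ext (h.trans neg_one_coe.symm)]; exact hπz
    have hsurj : Function.Surjective (QuotientGroup.lift (Subgroup.center Sp4) π hker) := by
      intro a
      obtain ⟨r, rfl⟩ := hf a
      exact ⟨q (FreeGroup.lift g6 r), hπ r⟩
    exact ⟨Finite.of_surjective _ hsurj, Nat.card_le_card_of_surjective _ hsurj⟩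

end CfsgLib.SpFourPresent
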