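import Cfsg.Agent.Lib.SpFourPresent.Data
import Cfsg.Agent.Lib.SLThreePresent.Bound

/-!
The torus, the abelian subgroup of the three roots and its stabiliser.
-/

set_option autoImplicit false

namespace CfsgLib.SpFourPresent

open SLTwoPresent SLThreePresent Pointwise

variable {F : Type*} [Field F] {G : Type*} [Group G]

local notation "SL2" => Matrix.SpecialLinearGroup (Fin 2) F

/-- The torus. -/
def tor (a b : SL2 → G) (ω : Fˣ) : Subgroup G := Subgroup.closure {a (dd ω), b (dd ω)}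

namespace Data

variable {A B : Matrix.SpecialLinearGroup (Fin 2) F →* G} {ω : Fˣ}

omit [Field F] in
theorem conj_mem_of {S : Subgroup G} {d : G} {s : Set G} (hs : ∀ x ∈ s, d * x * d⁻¹ ∈ S) {t : G}
    (ht : t ∈ Subgroup.closure s) : d * t * d⁻¹ ∈ S := by
  have : Subgroup.closure s ≤ S.comap (MulAut.conj d).toMonoidHom := by
    rw [Subgroup.closure_le]
    exact hs
  exact this ht

section
variable (D : Data A B ω)
include D

omit D in
theorem ha_mem : A (dd ω) ∈ tor (⇑A) (⇑B) ω := Subgroup.subset_closure (by simp)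

omit D in
theorem hb_mem : B (dd ω) ∈ tor (⇑A) (⇑B) ω := Subgroup.subset_closure (by simp)

theorem w_tor {t : G} (ht : t ∈ tor (⇑A) (⇑B) ω) :
    A ww * t * (A ww)⁻¹ ∈ tor (⇑A) (⇑B) ω ∧ (A ww)⁻¹ * t * A ww ∈ tor (⇑A) (⇑B) ω ∧
      B ww * t * (B ww)⁻¹ ∈ tor (⇑A) (⇑B) ω ∧ (B ww)⁻¹ * t * B ww ∈ tor (⇑A) (⇑B) ω := by
  set T := tor (⇑A) (⇑B) ω
  have ha : A (dd ω) ∈ T := ha_mem
  have hb : B (dd ω) ∈ T := hb_mem
  have h1 := T.mul_mem ha hb
  have h2 := T.mul_mem ha (T.pow_mem hb 2)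
  refine ⟨conj_mem_of ?_ ht, ?_, conj_mem_of ?_ ht, ?_⟩
  · rintro x (rfl | rfl)
    · rw [hom_ww_conj]; exact T.inv_mem ha
    · rw [D.wa_hb]; exact h1
  · have := conj_mem_of (S := T) (d := (A ww)⁻¹) ?_ ht
    · rwa [inv_inv] at this
    · rintro x (rfl | rfl) <;> rw [inv_inv]
      · rw [hom_ww_inv]; exact T.inv_mem ha
      · rw [D.wa_inv_hb]; exact h1
  · rintro x (rfl | rfl)
    · rw [D.wb_ha]; exact h2
    · rw [hom_ww_conj]; exact T.inv_mem hb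
  · have := conj_mem_of (S := T) (d := (B ww)⁻¹) ?_ ht
    · rwa [inv_inv] at this
    · rintro x (rfl | rfl) <;> rw [inv_inv]
      · rw [D.wb_inv_ha]; exact h2
      · rw [hom_ww_inv]; exact T.inv_mem hb

variable [Fintype F]

theorem tor_eq {t : G} (ht : t ∈ tor (⇑A) (⇑B) ω) :
    ∃ i j : ℕ, t = A (dd ω) ^ i * B (dd ω) ^ j := by
  classical
  set N := Fintype.card Fˣ with hNdef
  have hN : 0 < N := Fintype.card_pos
  have hω : (dd ω : SL2) ^ N = 1 := by rw [← dd_pow, pow_card_eq_one, dd_one]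
  let S : Set G := Set.range fun ij : Fin N × Fin N => A (dd ω) ^ (ij.1 : ℕ) * B (dd ω) ^ (ij.2 : ℕ)
  have hmk : ∀ i j : ℕ, A (dd ω) ^ i * B (dd ω) ^ j ∈ S := fun i j =>
    ⟨(⟨i % N, Nat.mod_lt _ hN⟩, ⟨j % N, Nat.mod_lt _ hN⟩), by
      simp only
      rw [← pow_eq_pow_mod i (by rw [← map_pow, hω, map_one]),
        ← pow_eq_pow_mod j (by rw [← map_pow, hω, map_one])]⟩
  have hS : ∀ a ∈ ({A (dd ω), B (dd ω)} : Set G), ∀ x ∈ S, a • x ∈ S := by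
    rintro a ha _ ⟨⟨i, j⟩, rfl⟩
    rcases ha with rfl | rfl
    · rw [smul_eq_mul, ← mul_assoc, ← pow_succ']; exact hmk _ _
    · rw [smul_eq_mul, ← mul_assoc, ← (D.hab_comm.pow_left (i : ℕ)).eq, mul_assoc, ← pow_succ']
      exact hmk _ _
  have h1 : t • (1 : G) ∈ S := smul_mem_of_closure (Set.finite_range _) hS ht
    (show (1 : G) ∈ S by simpa using hmk 0 0)
  rw [smul_eq_mul, mul_one] at h1
  obtain ⟨⟨i, j⟩, e⟩ := h1
  exact ⟨i, j, e.symm⟩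

theorem tor_move {φ : F → G} {k₁ k₂ : F} (h1 : Sc (A (dd ω)) φ k₁) (h2 : Sc (B (dd ω)) φ k₂)
    (hk₁ : k₁ ≠ 0) (hk₂ : k₂ ≠ 0) {t : G} (ht : t ∈ tor (⇑A) (⇑B) ω) (a : F) :
    (∃ b, t * φ a = φ b * t) ∧ ∃ b, φ a * t = t * φ b := by
  obtain ⟨i, j, rfl⟩ := D.tor_eq ht
  exact Roots.move (mul_ne_zero (pow_ne_zero _ hk₁) (pow_ne_zero _ hk₂))
    ((h1.pow i).mul (h2.pow j)) a

theorem tor_a {t : G} (ht : t ∈ tor (⇑A) (⇑B) ω) (a : F) :
    (∃ b, t * A (uu a) = A (uu b) * t) ∧ ∃ b, A (uu a) * t = t * A (uu b) :=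
  D.tor_move D.ha_a D.hb_a (pow_ne_zero _ ω.ne_zero) (inv_ne_zero ω.ne_zero) ht a

theorem tor_b {t : G} (ht : t ∈ tor (⇑A) (⇑B) ω) (a : F) :
    (∃ b, t * B (uu a) = B (uu b) * t) ∧ ∃ b, B (uu a) * t = t * B (uu b) :=
  D.tor_move D.ha_b D.hb_b (inv_ne_zero (pow_ne_zero _ ω.ne_zero)) (pow_ne_zero _ ω.ne_zero) ht a

/-- The abelian subgroup of the roots `2a+b`, `a+b`, `b`. -/
def NN : Subgroup G where
  carrier := Set.range fun x : F × F × F => rd (⇑A) (⇑B) x.1 * rc (⇑A) (⇑B) x.2.1 * B (uu x.2.2)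
  one_mem' := ⟨(0, 0, 0), by simp [D.rd_zero, D.rc_zero, uu_zero]⟩
  mul_mem' := by
    rintro _ _ ⟨⟨x, y, z⟩, rfl⟩ ⟨⟨x', y', z'⟩, rfl⟩
    refine ⟨(x + x', y + y', z + z'), ?_⟩
    simp only
    rw [D.rd_add, D.rc_add, uu_add, map_mul]
    set d := rd (⇑A) (⇑B) x
    set d' := rd (⇑A) (⇑B) x' with hd'
    set e := rc (⇑A) (⇑B) y with he
    set e' := rc (⇑A) (⇑B) y' with he'
    set f := B (uu z) with hf
    set f' := B (uu z')
    calc d * d' * (e * e') * (f * f') = d * (d' * e) * (e' * f) * f' := by group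
      _ = d * (e * d') * (f * e') * f' := by rw [(D.cd y x').eq, (D.bc z y').eq]
      _ = d * e * (d' * f) * e' * f' := by group
      _ = d * e * (f * d') * e' * f' := by rw [(D.bd z x').eq]
      _ = d * e * f * (d' * e' * f') := by group
  inv_mem' := by
    rintro _ ⟨⟨x, y, z⟩, rfl⟩
    refine ⟨(-x, -y, -z), ?_⟩
    simp only
    rw [eq_inv_iff_mul_eq_one]
    set d := rd (⇑A) (⇑B) x with hd
    set e := rc (⇑A) (⇑B) y with he
    set f := B (uu z) with hf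
    rw [D.rd_neg, D.rc_neg, ← hd, ← he,
      show B (uu (-z)) = f⁻¹ by
        rw [eq_inv_iff_mul_eq_one, hf, ← map_mul, ← uu_add, neg_add_cancel, uu_zero, map_one]]
    have h1 : f⁻¹ * d = d * f⁻¹ := (D.bd z x).inv_left.eq
    have h2 : e⁻¹ * d = d * e⁻¹ := (D.cd y x).inv_left.eq
    have h3 : f⁻¹ * e = e * f⁻¹ := (D.bc z y).inv_left.eq
    calc d⁻¹ * e⁻¹ * f⁻¹ * (d * e * f) = d⁻¹ * e⁻¹ * (f⁻¹ * d) * e * f := by group
      _ = d⁻¹ * (e⁻¹ * d) * (f⁻¹ * e) * f := by rw [h1]; group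
      _ = 1 := by rw [h2, h3]; group

theorem mem_NN_mk (x y z : F) : rd (⇑A) (⇑B) x * rc (⇑A) (⇑B) y * B (uu z) ∈ D.NN :=
  ⟨(x, y, z), rfl⟩

theorem rd_mem (x : F) : rd (⇑A) (⇑B) x ∈ D.NN := by
  have := D.mem_NN_mk x 0 0
  rwa [D.rc_zero, uu_zero, map_one, mul_one, mul_one] at this

theorem rc_mem (y : F) : rc (⇑A) (⇑B) y ∈ D.NN := by
  have := D.mem_NN_mk 0 y 0
  rwa [D.rd_zero, uu_zero, map_one, mul_one, one_mul] at this

theorem b_mem (z : F) : B (uu z) ∈ D.NN := by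
  have := D.mem_NN_mk 0 0 z
  rwa [D.rd_zero, D.rc_zero, one_mul, one_mul] at this

theorem finite_NN : Finite (D.NN : Set G) := (Set.finite_range _).to_subtype

/-- `ua` normalises the abelian subgroup. -/
theorem ua_conj {n : G} (hn : n ∈ D.NN) : A (uu 1) * n * (A (uu 1))⁻¹ ∈ D.NN := by
  have hτa : Sc (A (dd ω) * B (dd ω) ^ 2) (fun t => A (uu t)) 1 :=
    (D.ha_a.mul (D.hb_a.pow 2)).congr (by have := ω.ne_zero; field_simp)
  set τ := A (dd ω) * B (dd ω) ^ 2 with hτdef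
  have hτN : ∀ m ∈ D.NN, τ * m * τ⁻¹ ∈ D.NN := by
    rintro _ ⟨⟨x, y, z⟩, rfl⟩
    simp only
    rw [show τ * (rd (⇑A) (⇑B) x * rc (⇑A) (⇑B) y * B (uu z)) * τ⁻¹ =
      (τ * rd (⇑A) (⇑B) x * τ⁻¹) * (τ * rc (⇑A) (⇑B) y * τ⁻¹) * (τ * B (uu z) * τ⁻¹) by group,
      hτdef, D.ha_d.mul (D.hb_d.pow 2), D.ha_c.mul (D.hb_c.pow 2),
      D.ha_b.mul (D.hb_b.pow 2)]
    exact D.mem_NN_mk _ _ _
  have key : ∀ (φ : F → G) (k : F), Sc τ φ k → k = (ω : F) ^ 2 → φ 0 = 1 →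
      (∀ s t, φ (s + t) = φ s * φ t) → A (uu 1) * φ 1 * (A (uu 1))⁻¹ ∈ D.NN →
      ∀ t, A (uu 1) * φ t * (A (uu 1))⁻¹ ∈ D.NN := by
    intro φ k hk hk2 h0 hadd h1
    refine D.sq_induction _ (by simp [h0, D.NN.one_mem]) h1 (fun s t hs ht => ?_) (fun t ht => ?_)
    · rw [hadd, show A (uu 1) * (φ s * φ t) * (A (uu 1))⁻¹ =
        (A (uu 1) * φ s * (A (uu 1))⁻¹) * (A (uu 1) * φ t * (A (uu 1))⁻¹) by group]
      exact D.NN.mul_mem hs ht
    · have h2 : A (uu 1) = τ * A (uu 1) * τ⁻¹ := by rw [hτa 1, mul_one]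
      rw [← hk2, ← hk t, h2,
        show τ * A (uu 1) * τ⁻¹ * (τ * φ t * τ⁻¹) * (τ * A (uu 1) * τ⁻¹)⁻¹ =
          τ * (A (uu 1) * φ t * (A (uu 1))⁻¹) * τ⁻¹ by group]
      exact hτN _ ht
  obtain ⟨⟨x, y, z⟩, rfl⟩ := hn
  simp only
  rw [show A (uu 1) * (rd (⇑A) (⇑B) x * rc (⇑A) (⇑B) y * B (uu z)) * (A (uu 1))⁻¹ =
    (A (uu 1) * rd (⇑A) (⇑B) x * (A (uu 1))⁻¹) * (A (uu 1) * rc (⇑A) (⇑B) y * (A (uu 1))⁻¹) *
      (A (uu 1) * B (uu z) * (A (uu 1))⁻¹) by group]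
  refine D.NN.mul_mem (D.NN.mul_mem ?_ ?_) ?_
  · rw [(D.ad x).eq, mul_inv_cancel_right]; exact D.rd_mem x
  · refine key _ _ (D.ha_c.mul (D.hb_c.pow 2)) (one_mul _) D.rc_zero D.rc_add ?_ y
    rw [D.form_ac1]
    exact D.NN.mul_mem (D.NN.mul_mem (D.rd_mem 1) (D.rd_mem 1)) (D.rc_mem 1)
  · refine key (fun t => B (uu t)) _ (D.ha_b.mul (D.hb_b.pow 2)) ?_ (by simp [uu_zero])
      (fun s t => by simp [uu_add]) ?_ z
    · have := ω.ne_zero
      field_simp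
    · rw [D.form_ab1]
      exact D.mem_NN_mk 1 1 1

/-- The Levi subgroup of `a`. -/
theorem levi : ∃ L : Subgroup G,
    (∀ x, A x ∈ L) ∧ B (dd ω) ∈ L ∧ L ≤ Subgroup.normalizer (D.NN : Set G) ∧
      Finite L ∧ Nat.card L ≤ Nat.card SL2 * (Fintype.card F - 1) := by
  classical
  haveI := D.finite_NN
  have hgens : ∀ d ∈ ({A (uu 1), A (dd ω), A ww, B (dd ω)} : Set G),
      d ∈ Subgroup.normalizer (D.NN : Set G) := by
    intro d hd
    refine Subgroup.mem_normalizer_fintype (S := (D.NN : Set G)) ?_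
    intro n hn
    rcases hd with rfl | rfl | rfl | rfl
    · exact D.ua_conj hn
    all_goals
      obtain ⟨⟨x, y, z⟩, rfl⟩ := hn
      simp only
    · rw [show A (dd ω) * (rd (⇑A) (⇑B) x * rc (⇑A) (⇑B) y * B (uu z)) * (A (dd ω))⁻¹ =
        (A (dd ω) * rd (⇑A) (⇑B) x * (A (dd ω))⁻¹) * (A (dd ω) * rc (⇑A) (⇑B) y * (A (dd ω))⁻¹) *
          (A (dd ω) * B (uu z) * (A (dd ω))⁻¹) by group, D.ha_d, D.ha_c, D.ha_b]
      exact D.mem_NN_mk _ _ _
    · rw [show A ww * (rd (⇑A) (⇑B) x * rc (⇑A) (⇑B) y * B (uu z)) * (A ww)⁻¹ =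
        (A ww * rd (⇑A) (⇑B) x * (A ww)⁻¹) * (A ww * rc (⇑A) (⇑B) y * (A ww)⁻¹) *
          (A ww * B (uu z) * (A ww)⁻¹) by group, D.wa_rc]
      refine D.NN.mul_mem (D.NN.mul_mem ?_ (D.rc_mem _)) (D.rd_mem z)
      obtain ⟨j, hj⟩ := D.A_ww_sq
      obtain ⟨b, hb⟩ := (D.tor_b ((tor (⇑A) (⇑B) ω).pow_mem ha_mem j) x).1
      rw [show A ww * rd (⇑A) (⇑B) x * (A ww)⁻¹ = A ww * A ww * B (uu x) * (A ww * A ww)⁻¹ by
        simp only [rd]; group, hj, hb, mul_inv_cancel_right]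
      exact D.b_mem _
    · rw [show B (dd ω) * (rd (⇑A) (⇑B) x * rc (⇑A) (⇑B) y * B (uu z)) * (B (dd ω))⁻¹ =
        (B (dd ω) * rd (⇑A) (⇑B) x * (B (dd ω))⁻¹) * (B (dd ω) * rc (⇑A) (⇑B) y * (B (dd ω))⁻¹) *
          (B (dd ω) * B (uu z) * (B (dd ω))⁻¹) by group, D.hb_d, D.hb_c, D.hb_b]
      exact D.mem_NN_mk _ _ _
  haveI : Finite (A.range : Set G) := (Set.finite_range A).to_subtype
  have hbA : B (dd ω) ∈ Subgroup.normalizer (A.range : Set G) := by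
    refine Subgroup.mem_normalizer_fintype (S := (A.range : Set G)) ?_
    intro n hn
    have : A.range ≤ A.range.comap (MulAut.conj (B (dd ω))).toMonoidHom := by
      rw [MonoidHom.range_eq_map, ← D.std, MonoidHom.map_closure, Subgroup.closure_le]
      rintro _ ⟨s, hs, rfl⟩
      show B (dd ω) * A s * (B (dd ω))⁻¹ ∈ Subgroup.closure _
      rw [← MonoidHom.map_closure, D.std, ← MonoidHom.range_eq_map]
      rcases hs with rfl | rfl | rfl
      · rw [D.hb_ua]; exact ⟨_, rfl⟩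
      · rw [← D.hab_comm.eq, mul_inv_cancel_right]; exact ⟨_, rfl⟩
      · refine ⟨(dd ω)⁻¹ * ww, ?_⟩
        rw [map_mul, map_inv, eq_mul_inv_iff_mul_eq, mul_assoc, inv_mul_eq_iff_eq_mul,
          ← mul_assoc, ← D.wa_hb, inv_mul_cancel_right]
    exact this hn
  refine ⟨A.range ⊔ Subgroup.zpowers (B (dd ω)), fun x => Subgroup.mem_sup_left ⟨x, rfl⟩,
    Subgroup.mem_sup_right (Subgroup.mem_zpowers _), ?_, ?_⟩
  · refine sup_le ?_ (by rw [Subgroup.zpowers_le]; exact hgens _ (by simp))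
    rw [MonoidHom.range_eq_map, ← D.std, MonoidHom.map_closure, Subgroup.closure_le]
    rintro _ ⟨s, hs, rfl⟩
    rcases hs with rfl | rfl | rfl <;> exact hgens _ (by simp)
  have hcoe : ((A.range ⊔ Subgroup.zpowers (B (dd ω)) : Subgroup G) : Set G) =
      (A.range : Set G) * (Subgroup.zpowers (B (dd ω)) : Set G) :=
    Subgroup.coe_mul_of_right_le_normalizer_left _ _ (by rw [Subgroup.zpowers_le]; exact hbA)
  have hord : B (dd ω) ^ (Fintype.card F - 1) = 1 := by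
    rw [← map_pow, ← dd_pow, ← Fintype.card_units, pow_card_eq_one, dd_one, map_one]
  have hpos : 0 < Fintype.card F - 1 := by have := Fintype.one_lt_card (α := F); omega
  haveI hzf : Finite (Subgroup.zpowers (B (dd ω))) := by
    refine Nat.finite_of_card_ne_zero ?_
    rw [Nat.card_zpowers]
    exact (orderOf_pos_iff.2 (isOfFinOrder_iff_pow_eq_one.2 ⟨_, hpos, hord⟩)).ne'
  haveI : Finite ((Subgroup.zpowers (B (dd ω))) : Set G) := hzf
  have hfin : ((A.range : Set G) * (Subgroup.zpowers (B (dd ω)) : Set G)).Finite :=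
    Set.Finite.mul (Set.toFinite _) (Set.toFinite _)
  constructor
  · rw [← hcoe] at hfin
    exact hfin.to_subtype
  · show Nat.card ((A.range ⊔ Subgroup.zpowers (B (dd ω)) : Subgroup G) : Set G) ≤ _
    rw [hcoe]
    refine Set.natCard_mul_le.trans (Nat.mul_le_mul ?_ ?_)
    · exact Finite.card_range_le A
    · show Nat.card (Subgroup.zpowers (B (dd ω))) ≤ _
      rw [Nat.card_zpowers]
      exact orderOf_le_of_pow_eq_one hpos hord

end

end Data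

end CfsgLib.SpFourPresent
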